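import Groth.Agent.Cohder.RDAcyc
import Groth.Agent.PerfC.AcyclicBdd
import Mathlib.CategoryTheory.Abelian.Refinements
import Mathlib.Algebra.Homology.Embedding.CochainComplex

/-!
# Detecting exactness of a complex of acyclic objects

Let `F` be left exact, `K` a bounded below complex of `F`-acyclic objects such that `F(K)` is exact. If every
homology object `H` of `K` has the property that `F(H) = 0` implies `H = 0`, then `K` is exact.
-/

set_option autoImplicit false

universe v u v' u'

open CategoryTheory Category Limits HomologicalComplex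

namespace Groth.Agent.EtpbcA.ExactDetect

open Groth.Agent.Cohder.RDAcyc Groth.Agent.PerfC.AcyclicBdd

variable {C : Type u} [Category.{v} C] [Abelian C] [HasInjectiveResolutions C]
variable {D : Type u'} [Category.{v'} D] [Abelian D] (F : C ⥤ D) [F.Additive]

omit [HasInjectiveResolutions C] in
/-- if `F(K)` is exact at `q`, then `F(K^p) → F(Z^q)` is an epimorphism (`q = p + 1`). -/
theorem epi_map_toCycles [PreservesFiniteLimits F] (K : CochainComplex C ℤ) (p q : ℤ) (hpq : p + 1 = q)
    (h : ((F.mapHomologicalComplex (ComplexShape.up ℤ)).obj K).ExactAt q) :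
    Epi (F.map (K.toCycles p q)) := by
  rw [exactAt_iff' _ p q (q + 1) (by simp; lia) (by simp)] at h
  rw [ShortComplex.exact_iff_exact_up_to_refinements] at h
  rw [epi_iff_surjective_up_to_refinements]
  intro A y
  have hm : Mono (F.map (K.iCycles q)) := inferInstance
  obtain ⟨A', π, hπ, x, hx⟩ := h (y ≫ F.map (K.iCycles q)) (by
    change (y ≫ F.map (K.iCycles q)) ≫ F.map (K.d q (q + 1)) = 0
    rw [Category.assoc, ← F.map_comp, K.iCycles_d, F.map_zero, comp_zero])
  refine ⟨A', π, hπ, x, ?_⟩
  rw [← cancel_mono (F.map (K.iCycles q)), Category.assoc, Category.assoc, ← F.map_comp, K.toCycles_i]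
  exact hx

/-- One step: if `Z^p`, `K^p` are `F`-acyclic and `F(K)` is exact at `q = p + 1`, then `F(H^q) = 0`. -/
theorem isZero_map_homology [PreservesFiniteLimits F] (K : CochainComplex C ℤ) (p q : ℤ) (hpq : p + 1 = q)
    (hZ : IsAcyc F (K.cycles p)) (hK : IsAcyc F (K.X p))
    (h : ((F.mapHomologicalComplex (ComplexShape.up ℤ)).obj K).ExactAt q) :
    IsZero (F.obj (K.homology q)) := by
  have hprev : (ComplexShape.up ℤ).prev q = p := by simp [← hpq]
  -- the image of `K^p → Z^q`
  let t : K.X p ⟶ K.cycles q := K.toCycles p q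
  let B := Abelian.image t
  let S₁ : ShortComplex C := ShortComplex.mk (K.iCycles p) (Abelian.factorThruImage t) (by
    rw [← cancel_mono (Abelian.image.ι t), Category.assoc, Abelian.image.fac, zero_comp]
    exact iCycles_toCycles K p q)
  have hS₁ : S₁.ShortExact := by
    refine { exact := ?_, mono_f := inferInstanceAs (Mono (K.iCycles p)),
             epi_g := inferInstanceAs (Epi (Abelian.factorThruImage t)) }
    have h0 := cycSC_exact K p q hpq
    let φ : S₁ ⟶ cycSC K p q :=
      { τ₁ := 𝟙 _, τ₂ := 𝟙 _, τ₃ := Abelian.image.ι t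
        comm₁₂ := by simp [S₁]
        comm₂₃ := by simp [S₁, t] }
    have h1 : Epi φ.τ₁ := inferInstanceAs (Epi (𝟙 _))
    have h2 : IsIso φ.τ₂ := inferInstanceAs (IsIso (𝟙 _))
    have h3 : Mono φ.τ₃ := inferInstanceAs (Mono (Abelian.image.ι t))
    exact (ShortComplex.exact_iff_of_epi_of_isIso_of_mono φ).2 h0
  have hB : IsAcyc F B := isAcyc_X₃ F hS₁ hZ hK
  let S₂ : ShortComplex C := ShortComplex.mk (Abelian.image.ι t) (K.homologyπ q) (by
    rw [← cancel_epi (Abelian.factorThruImage t), ← Category.assoc, Abelian.image.fac, comp_zero]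
    exact K.toCycles_comp_homologyπ p q)
  have hS₂ : S₂.ShortExact := by
    refine { exact := ?_, mono_f := inferInstanceAs (Mono (Abelian.image.ι t)),
             epi_g := inferInstanceAs (Epi (K.homologyπ q)) }
    have h0 : (ShortComplex.mk t (K.homologyπ q) (K.toCycles_comp_homologyπ p q)).Exact :=
      ShortComplex.exact_of_g_is_cokernel _ (K.homologyIsCokernel p q hprev)
    let φ : ShortComplex.mk t (K.homologyπ q) (K.toCycles_comp_homologyπ p q) ⟶ S₂ :=
      { τ₁ := Abelian.factorThruImage t, τ₂ := 𝟙 _, τ₃ := 𝟙 _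
        comm₁₂ := by simp [S₂]
        comm₂₃ := by simp [S₂] }
    have h1 : Epi φ.τ₁ := inferInstanceAs (Epi (Abelian.factorThruImage t))
    have h2 : IsIso φ.τ₂ := inferInstanceAs (IsIso (𝟙 _))
    have h3 : Mono φ.τ₃ := inferInstanceAs (Mono (𝟙 _))
    exact (ShortComplex.exact_iff_of_epi_of_isIso_of_mono φ).1 h0
  have h1 : Epi (F.map (K.homologyπ q)) := (map_shortExact F hS₂ (hB 1 one_pos)).epi_g
  have h2 := epi_map_toCycles F K p q hpq h
  have h3 : Epi (F.map (K.toCycles p q) ≫ F.map (K.homologyπ q)) := epi_comp _ _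
  rw [← F.map_comp, K.toCycles_comp_homologyπ, F.map_zero] at h3
  exact IsZero.of_epi_eq_zero (0 : F.obj (K.X p) ⟶ F.obj (K.homology q)) rfl

/-- The detection lemma. -/
theorem acyclic_of_map [PreservesFiniteLimits F] (K : CochainComplex C ℤ) (a : ℤ) [K.IsStrictlyGE a]
    (hK : ∀ m, IsAcyc F (K.X m))
    (hG : ((F.mapHomologicalComplex (ComplexShape.up ℤ)).obj K).Acyclic)
    (hH : ∀ m, IsZero (F.obj (K.homology m)) → IsZero (K.homology m)) : K.Acyclic := by
  have key : ∀ (k : ℕ) (m : ℤ), m < a + k → IsAcyc F (K.cycles m) ∧ K.ExactAt m := by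
    intro k
    induction k with
    | zero =>
      intro m hm
      have h0 : IsZero (K.X m) := K.isZero_of_isStrictlyGE a m (by simpa using hm)
      have h1 : IsZero (K.cycles m) := by
        rw [IsZero.iff_id_eq_zero, ← cancel_mono (K.iCycles m)]
        exact h0.eq_of_tgt _ _
      refine ⟨?_, ?_⟩
      · have := h1.injective
        exact isAcyc_injective F _
      · rw [exactAt_iff_isZero_homology]
        exact IsZero.of_epi (K.homologyπ m) h1
    | succ k ih =>
      intro m hm
      obtain ⟨hz, he⟩ := ih (m - 1) (by push_cast at hm; lia)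
      have h1 : K.ExactAt m := by
        rw [exactAt_iff_isZero_homology]
        exact hH m (isZero_map_homology F K (m - 1) m (by lia) hz (hK _) (hG m))
      exact ⟨isAcyc_X₃ F (cycSC_shortExact K (m - 1) m (by lia) h1) hz (hK _), h1⟩
  intro m
  exact (key (m - a + 1).toNat m (by lia)).2

end Groth.Agent.EtpbcA.ExactDetect
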