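import Groth.Agent.EtpbcB.NKill
import Mathlib.CategoryTheory.Abelian.Subcategory
import Mathlib.CategoryTheory.ObjectProperty.FiniteProducts
import Mathlib.CategoryTheory.Preadditive.LeftExact
import Mathlib.CategoryTheory.Preadditive.Injective.Basic
import Mathlib.Algebra.Homology.Factorizations.CM5a
import Mathlib.Algebra.Homology.FullSubcategory
import Mathlib.Algebra.Homology.QuasiIso
import Mathlib.Algebra.Homology.ShortComplex.ExactFunctor
import Mathlib.Algebra.Homology.ShortComplex.PreservesHomology
import Mathlib.Algebra.Homology.Embedding.CochainComplex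

/-!
# The abelian category of objects killed by `n`

`Killed n` (see `EtpbcB.NKill`) is closed under kernels, cokernels and finite products; the full subcategory is
abelian with enough injectives, its injective objects are the killed objects with the extension property `NInj n`.
Bounded below complexes of killed objects admit quasi-isomorphisms to complexes with terms killed and `NInj n`.
-/

set_option autoImplicit false
universe w v v' u u'

open CategoryTheory CategoryTheory.Limits CategoryTheory.Category
open Groth.Agent.EtpbcB.NKill

namespace Groth.Agent.EtpbcA.KilledCat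

variable {C : Type u} [Category.{v} C] [Abelian C]

/-- `Killed n` as a property of objects. -/
abbrev KP (n : ℕ) : ObjectProperty C := fun X => Killed n X

open ZeroObject in
instance (n : ℕ) : (KP n : ObjectProperty C).ContainsZero where
  exists_zero := by
    refine ⟨0, isZero_zero C, ?_⟩
    exact (isZero_zero C).eq_of_src _ _

instance (n : ℕ) : (KP n : ObjectProperty C).IsClosedUnderKernels where
  kernels_le := by
    rintro _ ⟨f, k, hk, hf⟩
    have : Mono k.ι := mono_of_isLimit_fork hk
    exact killed_of_mono k.ι hf.1

instance (n : ℕ) : (KP n : ObjectProperty C).IsClosedUnderCokernels where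
  cokernels_le := by
    rintro _ ⟨f, k, hk, hf⟩
    have : Epi k.π := epi_of_isColimit_cofork hk
    exact killed_of_epi k.π hf.2

instance (n : ℕ) : (KP n : ObjectProperty C).IsClosedUnderFiniteProducts where
  isClosedUnderLimitsOfShape J _ := by
    refine ⟨?_⟩
    rintro X ⟨P, hP⟩
    change Killed n X
    unfold Killed
    apply P.isLimit.hom_ext
    intro j
    rw [nsmul_id_comp, zero_comp, ← comp_nsmul_id, hP j, comp_zero]

/-- The abelian category of objects killed by `n`. -/
abbrev K (C : Type u) [Category.{v} C] [Abelian C] (n : ℕ) : Type u :=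
  (KP n : ObjectProperty C).FullSubcategory

/-- The inclusion. -/
abbrev incl (C : Type u) [Category.{v} C] [Abelian C] (n : ℕ) : K C n ⥤ C :=
  (KP n : ObjectProperty C).ι

instance (n : ℕ) : PreservesFiniteLimits (incl C n) := by
  have : ∀ {X Y : K C n} (f : X ⟶ Y), PreservesLimit (parallelPair f 0) (incl C n) :=
    fun {X Y} f => (KP n : ObjectProperty C).preservesKernels_ι f
  exact Functor.preservesFiniteLimits_of_preservesKernels _

instance (n : ℕ) : PreservesFiniteColimits (incl C n) := by
  have : ∀ {X Y : K C n} (f : X ⟶ Y), PreservesColimit (parallelPair f 0) (incl C n) :=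
    fun {X Y} f => (KP n : ObjectProperty C).preservesCokernels_ι f
  exact Functor.preservesFiniteColimits_of_preservesCokernels _

/-- `NInj n` objects are injective in the category of killed objects. -/
theorem injective_of_nInj {n : ℕ} (J : K C n) (h : NInj n J.obj) : Injective J where
  factors {X Y} g f _ := by
    have : Mono ((incl C n).map f) := inferInstance
    obtain ⟨b, hb⟩ := h X.obj X.property ((incl C n).map g) ((incl C n).map f) Y.property this
    refine ⟨(incl C n).preimage b, (incl C n).map_injective ?_⟩
    rw [Functor.map_comp, Functor.map_preimage]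
    exact hb

theorem nInj_of_injective {n : ℕ} (J : K C n) [Injective J] : NInj n J.obj := by
  intro G hG a G' m hG' hm
  let G₀ : K C n := ⟨G, hG⟩
  let G₁ : K C n := ⟨G', hG'⟩
  let m' : G₀ ⟶ G₁ := (incl C n).preimage (X := G₀) (Y := G₁) m
  have hm' : (incl C n).map m' = m := (incl C n).map_preimage (X := G₀) (Y := G₁) m
  have : Mono m' := by
    apply (incl C n).mono_of_mono_map
    rw [hm']
    exact hm
  let a' : G₀ ⟶ J := (incl C n).preimage (X := G₀) (Y := J) a
  refine ⟨(incl C n).map (Injective.factorThru a' m'), ?_⟩
  rw [← hm', ← Functor.map_comp, Injective.comp_factorThru]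
  exact (incl C n).map_preimage (X := G₀) (Y := J) a

instance [EnoughInjectives C] (n : ℕ) : EnoughInjectives (K C n) where
  presentation X := by
    obtain ⟨J, hJ, i, hi⟩ := exists_mono_tor X.property
    let J' : K C n := ⟨tor n J, killed_tor n J⟩
    have : Injective J' := injective_of_nInj J' (nInj_tor n J)
    let i' : X ⟶ J' := (incl C n).preimage (X := X) (Y := J') i
    refine ⟨⟨J', this, i', ?_⟩⟩
    apply (incl C n).mono_of_mono_map
    have h : (incl C n).map i' = i := (incl C n).map_preimage (X := X) (Y := J') i
    rw [h]
    exact hi

/-- Bounded below complexes of killed objects are quasi-isomorphic to complexes with terms killed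
and injective among the killed objects. -/
theorem exists_resolution [EnoughInjectives C] {n : ℕ} (L : CochainComplex C ℤ) (a : ℤ)
    [L.IsStrictlyGE a] (hL : ∀ m, Killed n (L.X m)) :
    ∃ (I : CochainComplex C ℤ) (i : L ⟶ I), QuasiIso i ∧ I.IsStrictlyGE a ∧
      ∀ m, Killed n (I.X m) ∧ NInj n (I.X m) := by
  let L' : CochainComplex (K C n) ℤ := HomologicalComplex.liftObjectProperty _ L hL
  have hL' : L'.IsStrictlyGE a := by
    rw [← CochainComplex.isStrictlyGE_mapHomologicalComplex_obj_iff _ (incl C n)]
    exact ‹L.IsStrictlyGE a›
  obtain ⟨I', i', hi', hI', hGE⟩ := CochainComplex.Plus.modelCategoryQuillen.exists_quasiIso_injective L' a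
  let G := (incl C n).mapHomologicalComplex (ComplexShape.up ℤ)
  have : (incl C n).PreservesHomology := inferInstance
  have h1 : QuasiIso (G.map i') := HomologicalComplex.quasiIso_map_of_preservesHomology _ _
  refine ⟨G.obj I', G.map i', h1, ?_, fun m => ⟨(I'.X m).property, ?_⟩⟩
  · rw [CochainComplex.isStrictlyGE_mapHomologicalComplex_obj_iff]
    exact hGE
  · have := hI' m
    exact nInj_of_injective (I'.X m)

end Groth.Agent.EtpbcA.KilledCat
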