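import Groth.Agent.Cohder.RDPlusAcyc
import Groth.Agent.Cohder.CoconeSES
import Groth.Agent.PerfC.AcyclicBdd
import Groth.Agent.EtpbcB.Acyc
import Groth.Agent.Etalg.LACoreB0
import Mathlib.CategoryTheory.Adjunction.Limits

/-!
# Lemma Q of S3131: the comparison of a resolution of `F` with the direct image of a resolution of `L F`

* `kap`: for `G` left exact, `G (Z^m K) ≅ Z^m (G K)`;
* `isIso_homologyMap_zero`: `H^0` of `G` of a quasi-isomorphism between complexes in degrees `≥ 0`;
* `nonempty_homology_iso`: acyclic resolutions compute derived functors;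
* `quasiIso_stalk_iff`.
-/

set_option autoImplicit false

universe v v' v'' u u' u''

open CategoryTheory Category Limits HomologicalComplex

namespace Groth.Agent.EtpbcA.LAQ95

open Groth.Agent.Cohder.RDAcyc Groth.Agent.PerfC.AcyclicBdd

variable {C : Type u} [Category.{v} C] [Abelian C] {D : Type u'} [Category.{v'} D] [Abelian D]
  {A : Type u''} [Category.{v''} A] [Abelian A]

section Cycles

variable (G : D ⥤ C) [G.Additive] [PreservesFiniteLimits G] (K : CochainComplex D ℤ)

/-- `G K` for a complex `K`. -/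
noncomputable abbrev mc (G : D ⥤ C) [G.Additive] (K : CochainComplex D ℤ) : CochainComplex C ℤ :=
  (G.mapHomologicalComplex (ComplexShape.up ℤ)).obj K

/-- `G (Z^m K) ≅ Z^m (G K)`. -/
noncomputable def kap (m : ℤ) : G.obj (K.cycles m) ≅ (mc G K).cycles m :=
  IsLimit.conePointUniqueUpToIso
    (KernelFork.mapIsLimit _ (K.cyclesIsKernel m (m + 1) (by simp)) G)
    ((mc G K).cyclesIsKernel m (m + 1) (by simp))

@[reassoc]
theorem kap_hom_iCycles (m : ℤ) : (kap G K m).hom ≫ (mc G K).iCycles m = G.map (K.iCycles m) :=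
  IsLimit.conePointUniqueUpToIso_hom_comp
    (KernelFork.mapIsLimit _ (K.cyclesIsKernel m (m + 1) (by simp)) G)
    ((mc G K).cyclesIsKernel m (m + 1) (by simp)) WalkingParallelPair.zero

theorem kap_naturality {K L : CochainComplex D ℤ} (φ : K ⟶ L) (m : ℤ) :
    (kap G K m).hom ≫ cyclesMap ((G.mapHomologicalComplex (ComplexShape.up ℤ)).map φ) m =
      G.map (cyclesMap φ m) ≫ (kap G L m).hom := by
  rw [← cancel_mono ((mc G L).iCycles m), assoc, assoc, kap_hom_iCycles, cyclesMap_i,
    kap_hom_iCycles_assoc]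
  exact ((G.map_comp _ _).symm.trans (congrArg (fun t => G.map t) (cyclesMap_i φ m).symm)).trans
    (G.map_comp _ _)

theorem toCycles_kap (m m' : ℤ) : G.map (K.toCycles m m') ≫ (kap G K m').hom =
    (mc G K).toCycles m m' := by
  rw [← cancel_mono ((mc G K).iCycles m'), assoc, kap_hom_iCycles]
  exact (G.map_comp _ _).symm.trans ((congrArg (fun t => G.map t) (K.toCycles_i m m')).trans
    ((mc G K).toCycles_i m m').symm)

/-- If `φ` is a quasi-isomorphism in degree zero between complexes vanishing in degree `-1`, so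
is `G φ`. -/
theorem isIso_homologyMap_zero {K L : CochainComplex D ℤ} (φ : K ⟶ L) (hK : IsZero (K.X (-1)))
    (hL : IsZero (L.X (-1))) (hφ : IsIso (homologyMap φ 0)) :
    IsIso (homologyMap ((G.mapHomologicalComplex (ComplexShape.up ℤ)).map φ) 0) := by
  have hprev : (ComplexShape.up ℤ).prev 0 = -1 := by simp
  have e1 : IsIso (K.homologyπ 0) := K.isIso_homologyπ (-1) 0 hprev (hK.eq_of_src _ _)
  have e2 : IsIso (L.homologyπ 0) := L.isIso_homologyπ (-1) 0 hprev (hL.eq_of_src _ _)
  have e3 : IsIso ((mc G K).homologyπ 0) :=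
    (mc G K).isIso_homologyπ (-1) 0 hprev ((G.map_isZero hK).eq_of_src _ _)
  have e4 : IsIso ((mc G L).homologyπ 0) :=
    (mc G L).isIso_homologyπ (-1) 0 hprev ((G.map_isZero hL).eq_of_src _ _)
  have h1 : IsIso (cyclesMap φ 0) := by
    have h := homologyπ_naturality φ 0
    have h2 : IsIso (cyclesMap φ 0 ≫ L.homologyπ 0) := by
      rw [← h]; infer_instance
    exact IsIso.of_isIso_comp_right _ (L.homologyπ 0)
  have h2 : IsIso (cyclesMap ((G.mapHomologicalComplex (ComplexShape.up ℤ)).map φ) 0) := by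
    have h := kap_naturality G φ 0
    have h3 : IsIso ((kap G K 0).hom ≫
        cyclesMap ((G.mapHomologicalComplex (ComplexShape.up ℤ)).map φ) 0) := by
      rw [h]; infer_instance
    exact IsIso.of_isIso_comp_left (kap G K 0).hom _
  have h := homologyπ_naturality ((G.mapHomologicalComplex (ComplexShape.up ℤ)).map φ) 0
  have h3 : IsIso ((mc G K).homologyπ 0 ≫
      homologyMap ((G.mapHomologicalComplex (ComplexShape.up ℤ)).map φ) 0) := by
    rw [h]; infer_instance
  exact IsIso.of_isIso_comp_left ((mc G K).homologyπ 0) _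

/-- `H^{m'}(G K)` is the cokernel of `G (K^m) → G (Z^{m'})`, `m' = m + 1`. -/
noncomputable def homologyIsoCokernel (m m' : ℤ) (h : m + 1 = m') :
    (mc G K).homology m' ≅ cokernel (G.map (K.toCycles m m')) :=
  IsColimit.coconePointUniqueUpToIso
    ((mc G K).homologyIsCokernel m m' (by simp [← h]))
    (colimit.isColimit _) ≪≫
  (cokernelIsoOfEq (toCycles_kap G K m m').symm ≪≫
    cokernelCompIsIso (G.map (K.toCycles m m')) (kap G K m').hom)

end Cycles

section Acyclic

variable [HasInjectiveResolutions D] (G : D ⥤ C) [G.Additive] [PreservesFiniteLimits G]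

omit [PreservesFiniteLimits G] in
theorem nonempty_shift (I : CochainComplex D ℤ) (hex : ∀ m : ℤ, 0 < m → I.ExactAt m)
    (hI : ∀ m, IsAcyc G (I.X m)) (k : ℕ) :
    ∀ j : ℕ, Nonempty ((G.rightDerived (k + 1 + j)).obj (I.cycles 0) ≅
      (G.rightDerived (j + 1)).obj (I.cycles k)) := by
  induction k with
  | zero =>
    intro j
    have e : 0 + 1 + j = j + 1 := by omega
    rw [e]
    exact ⟨Iso.refl _⟩
  | succ k ih =>
    intro j
    obtain ⟨e₁⟩ := ih (j + 1)
    have h : (k : ℤ) + 1 = ((k + 1 : ℕ) : ℤ) := by push_cast; rfl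
    have hS := cycSC_shortExact I (k : ℤ) ((k + 1 : ℕ) : ℤ) h (hex _ (by omega))
    have e₂ : (G.rightDerived (j + 2)).obj (I.cycles k) ≅
        (G.rightDerived (j + 1)).obj (I.cycles ((k + 1 : ℕ) : ℤ)) :=
      Groth.Agent.EtpbcB.Acyc.shiftIso (G := G) hS (hI (k : ℤ)) j
    have e : k + 1 + 1 + j = k + 1 + (j + 1) := by omega
    rw [e]
    exact ⟨e₁ ≪≫ e₂⟩

/-- A complex of `G`-acyclic objects, exact in positive degrees, computes `R^q G (Z^0)`. -/
theorem nonempty_homology_iso (I : CochainComplex D ℤ) (hex : ∀ m : ℤ, 0 < m → I.ExactAt m)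
    (hI : ∀ m, IsAcyc G (I.X m)) (q : ℕ) (hq : 0 < q) :
    Nonempty ((mc G I).homology q ≅ (G.rightDerived q).obj (I.cycles 0)) := by
  obtain ⟨k, rfl⟩ : ∃ k, q = k + 1 := ⟨q - 1, by omega⟩
  obtain ⟨e₁⟩ := nonempty_shift G I hex hI k 0
  have h : (k : ℤ) + 1 = ((k + 1 : ℕ) : ℤ) := by push_cast; rfl
  have hS := cycSC_shortExact I (k : ℤ) ((k + 1 : ℕ) : ℤ) h (hex _ (by omega))
  have e₂ : (G.rightDerived 1).obj (I.cycles k) ≅ cokernel (G.map (I.toCycles k ((k + 1 : ℕ) : ℤ))) :=
    Groth.Agent.EtpbcB.Acyc.oneIso (G := G) hS (hI (k : ℤ))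
  exact ⟨homologyIsoCokernel G I (k : ℤ) ((k + 1 : ℕ) : ℤ) h ≪≫ e₂.symm ≪≫ e₁.symm⟩

end Acyclic

section Exact

omit [Abelian A] in
theorem isIso_iff_of_square {X Y X' Y' : A} (a : X ⟶ Y) (b : X' ⟶ Y') (e₁ : X ≅ X') (e₂ : Y ≅ Y')
    (h : a ≫ e₂.hom = e₁.hom ≫ b) : IsIso a ↔ IsIso b := by
  constructor
  · intro ha
    have h1 : b = e₁.inv ≫ a ≫ e₂.hom := by rw [h, Iso.inv_hom_id_assoc]
    rw [h1]
    infer_instance
  · intro hb
    have h1 : a = e₁.hom ≫ b ≫ e₂.inv := by rw [← assoc, ← h, assoc, Iso.hom_inv_id, comp_id]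
    rw [h1]
    infer_instance

variable (T : C ⥤ A) [T.Additive] [PreservesFiniteLimits T] [PreservesFiniteColimits T]

/-- `T φ` is a quasi-isomorphism at `m` iff `T (H^m φ)` is an isomorphism. -/
theorem quasiIsoAt_map_iff {K L : CochainComplex C ℤ} (φ : K ⟶ L) (m : ℤ) :
    QuasiIsoAt ((T.mapHomologicalComplex (ComplexShape.up ℤ)).map φ) m ↔
      IsIso (T.map (homologyMap φ m)) := by
  rw [quasiIsoAt_iff_isIso_homologyMap]
  exact isIso_iff_of_square _ _ ((K.sc m).mapHomologyIso T) ((L.sc m).mapHomologyIso T)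
    (ShortComplex.mapHomologyIso_hom_naturality ((shortComplexFunctor C _ m).map φ) T)

omit [Abelian C] [Abelian A] [T.Additive] [PreservesFiniteLimits T] [PreservesFiniteColimits T] in
theorem isIso_map_comp_left_iff {X Y Z : C} (a : X ⟶ Y) [IsIso a] (b : Y ⟶ Z) :
    IsIso (T.map (a ≫ b)) ↔ IsIso (T.map b) := by
  rw [T.map_comp]
  exact ⟨fun _ => IsIso.of_isIso_comp_left (T.map a) _, fun _ => inferInstance⟩

omit [Abelian C] [Abelian A] [T.Additive] [PreservesFiniteLimits T] [PreservesFiniteColimits T] in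
theorem isIso_map_comp_right_iff {X Y Z : C} (a : X ⟶ Y) (b : Y ⟶ Z) [IsIso b] :
    IsIso (T.map (a ≫ b)) ↔ IsIso (T.map a) := by
  rw [T.map_comp]
  exact ⟨fun _ => IsIso.of_isIso_comp_right _ (T.map b), fun _ => inferInstance⟩

/-- For complexes concentrated in degree `0`. -/
theorem isIso_map_homologyMap_single_iff {K L : CochainComplex C ℤ} (φ : K ⟶ L)
    (hK : ∀ m : ℤ, m ≠ 0 → IsZero (K.X m)) (hL : ∀ m : ℤ, m ≠ 0 → IsZero (L.X m)) :
    IsIso (T.map (homologyMap φ 0)) ↔ IsIso (T.map (φ.f 0)) := by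
  have hprev : (ComplexShape.up ℤ).prev 0 = -1 := by simp
  have hnext : (ComplexShape.up ℤ).next 0 = 1 := by simp
  have e1 : IsIso (K.homologyπ 0) := K.isIso_homologyπ (-1) 0 hprev ((hK _ (by decide)).eq_of_src _ _)
  have e2 : IsIso (L.homologyπ 0) := L.isIso_homologyπ (-1) 0 hprev ((hL _ (by decide)).eq_of_src _ _)
  have e3 : IsIso (K.iCycles 0) := K.isIso_iCycles 0 1 hnext ((hK _ (by decide)).eq_of_tgt _ _)
  have e4 : IsIso (L.iCycles 0) := L.isIso_iCycles 0 1 hnext ((hL _ (by decide)).eq_of_tgt _ _)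
  rw [← isIso_map_comp_left_iff T (K.homologyπ 0), homologyπ_naturality φ 0,
    isIso_map_comp_right_iff T, ← isIso_map_comp_right_iff T (cyclesMap φ 0) (L.iCycles 0),
    cyclesMap_i, isIso_map_comp_left_iff T]

end Exact

section Main

open Groth.Agent.Etalg.LACoreB

/-- A complex in degrees `≥ 0` has `H^0 = Z^0`. -/
theorem nonempty_cyclesZero_iso (K : CochainComplex D ℤ) (h : IsZero (K.X (-1))) :
    Nonempty (K.cycles 0 ≅ K.homology 0) := by
  have hprev : (ComplexShape.up ℤ).prev 0 = -1 := by simp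
  have e : IsIso (K.homologyπ 0) := K.isIso_homologyπ (-1) 0 hprev (h.eq_of_src _ _)
  exact ⟨@asIso _ _ _ _ (K.homologyπ 0) e⟩

/-- A complex concentrated in degree `0`. -/
theorem nonempty_homologyZero_iso (K : CochainComplex D ℤ)
    (hK : ∀ m : ℤ, m ≠ 0 → IsZero (K.X m)) :
    Nonempty (K.homology 0 ≅ K.X 0) := by
  have hprev : (ComplexShape.up ℤ).prev 0 = -1 := by simp
  have hnext : (ComplexShape.up ℤ).next 0 = 1 := by simp
  have e1 : IsIso (K.homologyπ 0) := K.isIso_homologyπ (-1) 0 hprev ((hK _ (by decide)).eq_of_src _ _)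
  have e3 : IsIso (K.iCycles 0) := K.isIso_iCycles 0 1 hnext ((hK _ (by decide)).eq_of_tgt _ _)
  exact ⟨(@asIso _ _ _ _ (K.homologyπ 0) e1).symm ≪≫ @asIso _ _ _ _ (K.iCycles 0) e3⟩

/-- The single complex is zero away from its degree. -/
theorem isZero_single_X (F : C) (m : ℤ) (hm : m ≠ 0) :
    IsZero (((HomologicalComplex.single C (ComplexShape.up ℤ) 0).obj F).X m) :=
  isZero_single_obj_X (ComplexShape.up ℤ) 0 F m hm

theorem quasiIso_stalk_iff [HasInjectiveResolutions D] {L : C ⥤ D} {G : D ⥤ C} [L.Additive]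
    [G.Additive] (adj : L ⊣ G) [PreservesFiniteLimits L] (T : C ⥤ A) [T.Additive]
    [PreservesFiniteLimits T] [PreservesFiniteColimits T] (F : C) (E : CochainComplex C ℤ)
    [E.IsStrictlyGE 0] (a : (HomologicalComplex.single C (ComplexShape.up ℤ) 0).obj F ⟶ E)
    [QuasiIso a] (I : CochainComplex D ℤ) [I.IsStrictlyGE 0]
    (i : (L.mapHomologicalComplex (ComplexShape.up ℤ)).obj E ⟶ I) [QuasiIso i]
    (hI : ∀ m, IsAcyc G (I.X m)) :
    QuasiIso ((T.mapHomologicalComplex (ComplexShape.up ℤ)).map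
      (unitC adj E ≫ (G.mapHomologicalComplex (ComplexShape.up ℤ)).map i)) ↔
    IsIso (T.map (adj.unit.app F)) ∧
      ∀ q : ℕ, 0 < q → IsZero (T.obj ((G.rightDerived q).obj (L.obj F))) := by
  have hGl : PreservesLimits G := adj.rightAdjoint_preservesLimits
  have hGf : PreservesFiniteLimits G := inferInstance
  have hLc : PreservesColimits L := adj.leftAdjoint_preservesColimits
  have hLf : PreservesFiniteColimits L := inferInstance
  -- the quasi-isomorphism `L F[0] ⟶ I`
  have hLa : QuasiIso ((L.mapHomologicalComplex (ComplexShape.up ℤ)).map a) := inferInstance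
  let P := (HomologicalComplex.single C (ComplexShape.up ℤ) 0).obj F
  let β : (L.mapHomologicalComplex (ComplexShape.up ℤ)).obj P ⟶ I :=
    (L.mapHomologicalComplex (ComplexShape.up ℤ)).map a ≫ i
  have hβ : QuasiIso β := quasiIso_comp _ _
  have hP : ∀ m : ℤ, m ≠ 0 → IsZero (P.X m) := fun m hm => isZero_single_X F m hm
  have hLP : ∀ m : ℤ, m ≠ 0 →
      IsZero (((L.mapHomologicalComplex (ComplexShape.up ℤ)).obj P).X m) :=
    fun m hm => L.map_isZero (hP m hm)
  have hIneg : ∀ m : ℤ, m < 0 → IsZero (I.X m) := fun m hm => I.isZero_of_isStrictlyGE 0 m hm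
  have hex : ∀ m : ℤ, 0 < m → I.ExactAt m := by
    intro m hm
    rw [exactAt_iff_isZero_homology]
    refine IsZero.of_iso ?_ (asIso (homologyMap β m)).symm
    exact (ShortComplex.exact_iff_isZero_homology _).mp
      (ShortComplex.exact_of_isZero_X₂ _ (hLP m (by omega)))
  -- the composite
  have key : a ≫ (unitC adj E ≫ (G.mapHomologicalComplex (ComplexShape.up ℤ)).map i) =
      unitC adj P ≫ (G.mapHomologicalComplex (ComplexShape.up ℤ)).map β := by
    rw [unitC_naturality_assoc, ← Functor.map_comp]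
  have hstep : ∀ m : ℤ, QuasiIsoAt ((T.mapHomologicalComplex (ComplexShape.up ℤ)).map
      (unitC adj E ≫ (G.mapHomologicalComplex (ComplexShape.up ℤ)).map i)) m ↔
      IsIso (T.map (homologyMap
        (unitC adj P ≫ (G.mapHomologicalComplex (ComplexShape.up ℤ)).map β) m)) := by
    intro m
    rw [quasiIsoAt_map_iff, ← key, homologyMap_comp a, isIso_map_comp_left_iff]
  rw [quasiIso_iff]
  simp only [hstep]
  have h0 : IsIso (T.map (homologyMap
        (unitC adj P ≫ (G.mapHomologicalComplex (ComplexShape.up ℤ)).map β) 0)) ↔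
      IsIso (T.map (adj.unit.app F)) := by
    have h1 : IsIso (homologyMap ((G.mapHomologicalComplex (ComplexShape.up ℤ)).map β) 0) :=
      isIso_homologyMap_zero G β (hLP (-1) (by decide)) (hIneg (-1) (by decide)) inferInstance
    rw [homologyMap_comp, isIso_map_comp_right_iff, isIso_map_homologyMap_single_iff T _ hP
      (fun m hm => G.map_isZero (hLP m hm)), unitC_f]
    have hs := adj.unit.naturality (singleObjXSelf (ComplexShape.up ℤ) (0 : ℤ) F).hom
    exact isIso_iff_of_square _ _ (T.mapIso (singleObjXSelf (ComplexShape.up ℤ) (0 : ℤ) F))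
      (T.mapIso ((L ⋙ G).mapIso (singleObjXSelf (ComplexShape.up ℤ) (0 : ℤ) F)))
      (by
        change T.map _ ≫ T.map _ = T.map _ ≫ T.map _
        rw [← T.map_comp, ← T.map_comp]
        exact congrArg (fun t => T.map t) hs.symm)
  have hneg : ∀ m : ℤ, m < 0 → IsIso (T.map (homologyMap
        (unitC adj P ≫ (G.mapHomologicalComplex (ComplexShape.up ℤ)).map β) m)) := by
    intro m hm
    have z1 : IsZero (P.homology m) := (ShortComplex.exact_iff_isZero_homology _).mp
      (ShortComplex.exact_of_isZero_X₂ _ (hP m (by omega)))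
    have z2 : IsZero ((mc G I).homology m) := (ShortComplex.exact_iff_isZero_homology _).mp
      (ShortComplex.exact_of_isZero_X₂ _ (G.map_isZero (hIneg m hm)))
    have : IsIso (homologyMap
        (unitC adj P ≫ (G.mapHomologicalComplex (ComplexShape.up ℤ)).map β) m) :=
      ⟨0, z1.eq_of_src _ _, z2.eq_of_src _ _⟩
    infer_instance
  have hpos : ∀ q : ℕ, 0 < q → (IsIso (T.map (homologyMap
        (unitC adj P ≫ (G.mapHomologicalComplex (ComplexShape.up ℤ)).map β) (q : ℤ))) ↔
      IsZero (T.obj ((G.rightDerived q).obj (L.obj F)))) := by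
    intro q hq
    have z1 : IsZero (P.homology q) := (ShortComplex.exact_iff_isZero_homology _).mp
      (ShortComplex.exact_of_isZero_X₂ _ (hP q (by omega)))
    obtain ⟨e⟩ := nonempty_homology_iso G I hex hI q hq
    obtain ⟨c₁⟩ := nonempty_cyclesZero_iso I (hIneg (-1) (by decide))
    obtain ⟨c₂⟩ := nonempty_homologyZero_iso
      ((L.mapHomologicalComplex (ComplexShape.up ℤ)).obj P) hLP
    let c : I.cycles 0 ≅ L.obj F := c₁ ≪≫ (asIso (homologyMap β 0)).symm ≪≫ c₂ ≪≫
      L.mapIso (singleObjXSelf (ComplexShape.up ℤ) (0 : ℤ) F)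
    let e' : T.obj ((mc G I).homology q) ≅ T.obj ((G.rightDerived q).obj (L.obj F)) :=
      T.mapIso (e ≪≫ (G.rightDerived q).mapIso c)
    constructor
    · intro h
      have h2 := @asIso _ _ _ _ _ h
      exact IsZero.of_iso (IsZero.of_iso (T.map_isZero z1) h2.symm) e'.symm
    · intro h
      have z2 : IsZero (T.obj ((mc G I).homology q)) := IsZero.of_iso h e'
      exact ⟨0, (T.map_isZero z1).eq_of_src _ _, z2.eq_of_src _ _⟩
  constructor
  · intro h
    exact ⟨h0.mp (h 0), fun q hq => (hpos q hq).mp (h q)⟩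
  · rintro ⟨ha, hb⟩ m
    rcases lt_trichotomy m 0 with hm | rfl | hm
    · exact hneg m hm
    · exact h0.mpr ha
    · obtain ⟨q, rfl⟩ := Int.eq_ofNat_of_zero_le hm.le
      exact (hpos q (by omega)).mpr (hb q (by omega))

end Main

end Groth.Agent.EtpbcA.LAQ95
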