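import Groth.Prelude.Def_EtBase
import Groth.Agent.EtpbcB.GeomPointIndep

/-!
# The stalk condition for local acyclicity

`LAStalk eps F ξ`: at the geometric point `ξ`, `F → R eps_* eps⁻¹ F` is an isomorphism.
-/

set_option autoImplicit false
universe u

open CategoryTheory CategoryTheory.Limits AlgebraicGeometry Opposite

namespace Groth.Agent.EtpbcA.LA

/-- At the geometric point `ξ` of `X` the map `F → R eps_* eps⁻¹ F` is an isomorphism. -/
def LAStalk {X Y : Scheme.{u}} (eps : Y ⟶ X) (F : EtCoh.Ab X) {k : Type u} [Field k] [IsSepClosed k]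
    (ξ : Spec (CommRingCat.of k) ⟶ X) : Prop :=
  Function.Bijective ((EtCoh.stalk ξ).map ((EtCoh.pullPushAdj eps).unit.app F)) ∧
    ∀ q : ℕ, 0 < q →
      IsZero ((EtCoh.stalk ξ).obj ((EtCoh.Rpush eps q).obj ((EtCoh.pull eps).obj F)))

variable {X Y : Scheme.{u}} {eps : Y ⟶ X} {F : EtCoh.Ab X}

theorem bijective_map_iff {C : Type*} [Category* C] {S T : C ⥤ AddCommGrpCat.{u + 1}} (e : S ≅ T)
    {A B : C} (φ : A ⟶ B) : Function.Bijective (S.map φ) ↔ Function.Bijective (T.map φ) := by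
  rw [← ConcreteCategory.isIso_iff_bijective, ← ConcreteCategory.isIso_iff_bijective]
  exact NatIso.isIso_map_iff e φ

theorem LAStalk.of_iso {k : Type u} [Field k] [IsSepClosed k]
    {ξ : Spec (CommRingCat.of k) ⟶ X} {k' : Type u} [Field k'] [IsSepClosed k']
    {ξ' : Spec (CommRingCat.of k') ⟶ X} (h : LAStalk eps F ξ) (e : EtCoh.stalk ξ ≅ EtCoh.stalk ξ') :
    LAStalk eps F ξ' :=
  ⟨(bijective_map_iff e _).1 h.1, fun q hq => (h.2 q hq).of_iso (e.symm.app _)⟩

/-- The stalk condition only depends on the point below the geometric point. -/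
theorem laStalk_iff_of_eq {k : Type u} [Field k] [IsSepClosed k]
    (ξ : Spec (CommRingCat.of k) ⟶ X) {k' : Type u} [Field k'] [IsSepClosed k']
    (ξ' : Spec (CommRingCat.of k') ⟶ X) (h : ξ default = ξ' default) :
    LAStalk eps F ξ ↔ LAStalk eps F ξ' := by
  obtain ⟨e⟩ := EtpbcB.GeomPointIndep.nonempty_stalkIso ξ ξ' h
  exact ⟨fun h => h.of_iso e, fun h => h.of_iso e.symm⟩

end Groth.Agent.EtpbcA.LA
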