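import Groth.Agent.EtpbcA.ConsLocus
import Groth.Agent.EtpbcA.ConsSpread

/-!
# Descent of constructibility along surjective morphisms

* `isLocallyConstructible_of_surjective`: a subset with locally constructible preimage under a
  surjective quasi-compact quasi-separated morphism is locally constructible.
* `isConstructible_of_pull`: if `f : X ⟶ Y` is surjective, quasi-compact, quasi-separated and
  `f^{-1}F` is constructible then `F` is constructible.
-/

set_option autoImplicit false
universe u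

open CategoryTheory CategoryTheory.Limits AlgebraicGeometry Opposite Topology

namespace Groth.Agent.EtpbcA.ConsDescent

open Groth.Agent.Etbase Groth.Agent.Etcore Groth.Agent.EtpbcA.ConsVan
open Groth.Agent.EtpbcA.ConsPull Groth.Agent.EtpbcA Groth.Agent.EtpbcA.ConsCrit

/-- Constructibility descends along surjective spectral maps. -/
theorem isConstructible_of_surjective_spectral {A B : Type u} [TopologicalSpace A]
    [TopologicalSpace B] [CompactSpace A] [QuasiSober A] [PrespectralSpace A]
    [QuasiSeparatedSpace A] [CompactSpace B] [QuasiSober B] [PrespectralSpace B]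
    [QuasiSeparatedSpace B] [T0Space B] {f : A → B} (hf : IsSpectralMap f)
    (hs : Function.Surjective f) {C : Set B} (hC : IsConstructible (f ⁻¹' C)) :
    IsConstructible C := by
  refine Ega43.ConsCrit.isConstructible_of_forall_exists C fun x => ?_
  by_cases hx : x ∈ C
  · obtain ⟨T, h1, h2, h3, h4, h5⟩ := ConsTop.exists_preimage_subset hf hC (D := Set.univ)
      isOpen_univ isCompact_univ (b := x) (Set.mem_univ _) (by
        rintro a rfl; exact hx)
    refine ⟨T, h2, h3, ?_⟩
    rw [Set.inter_eq_left.2]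
    · exact h2
    · intro t ht
      obtain ⟨a, rfl⟩ := hs t
      exact h5 ht
  · obtain ⟨T, h1, h2, h3, h4, h5⟩ := ConsTop.exists_preimage_subset hf hC.compl (D := Set.univ)
      isOpen_univ isCompact_univ (b := x) (Set.mem_univ _) (by
        rintro a rfl; exact hx)
    refine ⟨T, h2, h3, ?_⟩
    have : T ∩ C = ∅ := by
      rw [Set.eq_empty_iff_forall_notMem]
      rintro t ⟨ht, htC⟩
      obtain ⟨a, rfl⟩ := hs t
      exact h5 ht htC
    rw [this]
    exact IsConstructible.empty

theorem isLocallyConstructible_of_surjective {A B : Scheme.{u}} (p : A ⟶ B) [Surjective p]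
    [QuasiCompact p] [QuasiSeparated p] {C : Set B} (hC : IsLocallyConstructible (p ⁻¹' C)) :
    IsLocallyConstructible C := by
  intro x
  obtain ⟨W, hW, hxW, -⟩ : ∃ W : B.Opens, IsAffineOpen W ∧ x ∈ W ∧ W ≤ ⊤ :=
    exists_isAffineOpen_mem_and_subset (X := B) (U := (⊤ : B.Opens)) (x := x) (by trivial)
  refine ⟨W, W.isOpen.mem_nhds hxW, W.isOpen, ?_⟩
  have : IsAffine W.toScheme := hW
  change IsConstructible (W.ι ⁻¹' C)
  have h1 : QuasiCompact (p ∣_ W) := inferInstance
  have h2 : QuasiSeparated (p ∣_ W) := inferInstance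
  have h3 : Surjective (p ∣_ W) :=
    MorphismProperty.of_isPullback (P := @Surjective) (isPullback_morphismRestrict p W).flip ‹_›
  have h4 : CompactSpace (p ⁻¹ᵁ W).toScheme := QuasiCompact.compactSpace_of_compactSpace (p ∣_ W)
  have h5 : QuasiSeparatedSpace (p ⁻¹ᵁ W).toScheme := quasiSeparatedSpace_of_quasiSeparated (p ∣_ W)
  refine isConstructible_of_surjective_spectral (isSpectralMap_of_quasiCompact (p ∣_ W))
    (p ∣_ W).surjective ?_
  have h6 := (hC.preimage_of_isOpenEmbedding (p ⁻¹ᵁ W).ι.isOpenEmbedding).isConstructible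
  have h7 : (p ∣_ W) ⁻¹' (W.ι ⁻¹' C) = (p ⁻¹ᵁ W).ι ⁻¹' (p ⁻¹' C) := by
    ext a
    have := congrArg (fun (q : (p ⁻¹ᵁ W).toScheme ⟶ B) => q a) (morphismRestrict_ι p W)
    change W.ι ((p ∣_ W) a) ∈ C ↔ p ((p ⁻¹ᵁ W).ι a) ∈ C
    have h8 : W.ι ((p ∣_ W) a) = p ((p ⁻¹ᵁ W).ι a) := this
    rw [h8]
  rw [h7]
  exact h6

/-- Around every point a constructible sheaf pulled back along `f` gives a finite group of sections
downstairs which is bijective on the germ at that point. -/
theorem exists_good_of_pull {X Y : Scheme.{u}} (f : X ⟶ Y) (F : EtCoh.Ab Y)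
    (hF : EtPBC.IsConstructible ((EtCoh.pull f).obj F)) (x : X) :
    ∃ (U : Y.Etale) (u : U.left) (_ : U.hom u = f x) (M : Type) (_ : AddCommGroup M)
      (_ : Finite M) (φ : M →+ EtCoh.sect F U), InjAt F φ u ∧ SurjAt F φ u := by
  obtain ⟨W, hxW, T, g, h1, h2, ⟨t, ht⟩, h3, h4⟩ := (Strata.isConstructible_iff_local' _).1 hF x
  have h5 := PullFLC.isFLC_of_iso ((PullFLC.pullComp g f).app F) h4
  rw [ConsFLC.isFLC_iff] at h5
  obtain ⟨V, v, hv, M, i1, i2, φ, hφ⟩ := h5 t
  obtain ⟨U, φ', Q, a, b, q, hq, hab⟩ := ConsSpread.exists_spread (g ≫ f) F v φ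
  refine ⟨U, fstBc (g ≫ f) U (b.left q), ?_, M, i1, i2, φ', ?_⟩
  · have e1 : U.hom (fstBc (g ≫ f) U (b.left q)) =
        (g ≫ f) (((EtCoh.bc (g ≫ f)).obj U).hom (b.left q)) :=
      congrArg (fun (r : ((EtCoh.bc (g ≫ f)).obj U).left ⟶ Y) => r (b.left q))
        (pullback.condition (f := U.hom) (g := g ≫ f))
    rw [e1, Cover.hom_apply, ← Cover.hom_apply a, hq, hv, ← ht]
    rfl
  · have e2 : resHom b ((eta (g ≫ f) F U).comp φ') = resHom a φ := by
      ext m
      exact (hab m).symm
    rw [← injAt_eta_iff, ← surjAt_eta_iff, ← injAt_res_iff, ← surjAt_res_iff, e2,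
      injAt_res_iff, surjAt_res_iff]
    exact hφ _

/-- Constructibility descends along surjective quasi-compact quasi-separated morphisms. -/
theorem isConstructible_of_pull {X Y : Scheme.{u}} (f : X ⟶ Y) [Surjective f] [QuasiCompact f]
    [QuasiSeparated f] (F : EtCoh.Ab Y)
    (hF : EtPBC.IsConstructible ((EtCoh.pull f).obj F)) : EtPBC.IsConstructible F := by
  refine isConstructible_of_good F fun y => ?_
  obtain ⟨x, rfl⟩ := f.surjective y
  obtain ⟨U, u, hu, M, i1, i2, φ, hφ⟩ := exists_good_of_pull f F hF x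
  refine ⟨U, u, hu, M, i1, i2, φ, {c | InjAt F φ c ∧ SurjAt F φ c}, ?_, hφ, fun c hc => hc⟩
  have h1 := ConsLocus.isLocallyConstructible_good hF ((EtCoh.bc f).obj U) ((eta f F U).comp φ)
  have h2 : Surjective (fstBc f U) := inferInstanceAs (Surjective (pullback.fst U.hom f))
  have h3 : QuasiCompact (fstBc f U) := inferInstanceAs (QuasiCompact (pullback.fst U.hom f))
  have h4 : QuasiSeparated (fstBc f U) := inferInstanceAs (QuasiSeparated (pullback.fst U.hom f))
  refine isLocallyConstructible_of_surjective (fstBc f U) ?_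
  have h5 : (fstBc f U) ⁻¹' {c | InjAt F φ c ∧ SurjAt F φ c} =
      {c | InjAt ((EtCoh.pull f).obj F) ((eta f F U).comp φ) c ∧
        SurjAt ((EtCoh.pull f).obj F) ((eta f F U).comp φ) c} := by
    ext c
    change (InjAt F φ (fstBc f U c) ∧ SurjAt F φ (fstBc f U c)) ↔ _
    rw [← injAt_eta_iff, ← surjAt_eta_iff]
    rfl
  rw [h5]
  exact h1

end Groth.Agent.EtpbcA.ConsDescent
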