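import Groth.Agent.EtpbcA.ArtinDim
import Groth.Agent.EtpbcA.ArtinTrdeg
import Groth.Agent.Flat2D.FibreDimSch
import Groth.Agent.Sga3C.DimTop
import Mathlib.RingTheory.KrullDimension.Polynomial
import Mathlib.FieldTheory.IsSepClosed

/-!
# Schemes of finite type over a field have finite dimension

* `exists_dim_le`: `X` of finite type over a field has finite dimension;
* `dim_le_of_etale`: an étale `X`-scheme has dimension at most the dimension of `X`;
* `dim_baseChange`: the dimension is unchanged by an algebraic extension of the ground field;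
* `quasiSeparated_of_field`: a morphism of schemes locally of finite type over a field is
  quasi-separated.
-/

set_option autoImplicit false
universe u

open CategoryTheory CategoryTheory.Limits AlgebraicGeometry Opposite

namespace Groth.Agent.EtpbcA.CdFinDim

theorem exists_dim_le_of_finiteType (K A : Type u) [Field K] [CommRing A] [Algebra K A]
    [Algebra.FiniteType K A] : ∃ n : ℕ, ringKrullDim A ≤ n := by
  obtain ⟨n, f, hf⟩ := Algebra.FiniteType.iff_quotient_mvPolynomial''.1 ‹Algebra.FiniteType K A›
  refine ⟨n, (ringKrullDim_le_of_surjective f.toRingHom hf).trans ?_⟩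
  rw [MvPolynomial.ringKrullDim_of_isNoetherianRing, ringKrullDim_eq_zero_of_field]
  simp

theorem exists_dim_le_of_isAffine {K : Type u} [Field K] {Z : Scheme.{u}} [IsAffine Z]
    (g : Z ⟶ Spec (CommRingCat.of K)) [LocallyOfFiniteType g] :
    ∃ n : ℕ, topologicalKrullDim Z ≤ n := by
  obtain ⟨g', hg'⟩ : ∃ g' : CommRingCat.of K ⟶ Γ(Z, ⊤), Z.isoSpec.inv ≫ g = Spec.map g' :=
    ⟨Spec.preimage (Z.isoSpec.inv ≫ g), (Spec.map_preimage _).symm⟩
  have hft : g'.hom.FiniteType := by
    have : LocallyOfFiniteType (Spec.map g') := by rw [← hg']; infer_instance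
    exact HasRingHomProperty.Spec_iff.mp this
  algebraize [g'.hom]
  obtain ⟨n, hn⟩ := exists_dim_le_of_finiteType K Γ(Z, ⊤)
  refine ⟨n, ?_⟩
  rw [Flat2D.FibreDimSch.topologicalKrullDim_eq_of_iso Z.isoSpec]
  exact (PrimeSpectrum.topologicalKrullDim_eq_ringKrullDim (R := Γ(Z, ⊤))).trans_le hn

/-- A scheme of finite type over a field has finite dimension. -/
theorem exists_dim_le {K : Type u} [Field K] {X : Scheme.{u}}
    (a : X ⟶ Spec (CommRingCat.of K)) [LocallyOfFiniteType a] [QuasiCompact a] :
    ∃ n : ℕ, topologicalKrullDim X ≤ n := by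
  classical
  have : CompactSpace X := (quasiCompact_iff_compactSpace a).mp inferInstance
  let 𝒰 := X.affineCover.finiteSubcover
  have h𝒰 : ∀ i, IsAffine (𝒰.X i) := fun i => by
    change IsAffine (X.affineCover.X _)
    infer_instance
  have h := fun i => exists_dim_le_of_isAffine (𝒰.f i ≫ a)
  choose n hn using h
  refine ⟨Finset.univ.sup n, ?_⟩
  rw [Flat2D.FibreDimSch.topologicalKrullDim_eq_iSup_openCover _ 𝒰]
  refine iSup_le fun i => (hn i).trans ?_
  exact_mod_cast Finset.le_sup (f := n) (Finset.mem_univ i)

/-- The dimension of an étale `X`-scheme, `X` locally of finite type over a field. -/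
theorem dim_le_of_etale {K : Type u} [Field K] {X V : Scheme.{u}}
    (a : X ⟶ Spec (CommRingCat.of K)) [LocallyOfFiniteType a] (h : V ⟶ X) [Etale h] (n : ℕ)
    (hX : topologicalKrullDim X ≤ n) : topologicalKrullDim V ≤ n := by
  rw [Artin.resTrdegLE_iff_dim K V (h ≫ a) n]
  rw [Artin.resTrdegLE_iff_dim K X a n] at hX
  intro x
  exact (Artin.resTrdegLE_comp_iff a h x (Artin.algAt_of_etale h x) n).2 (hX (h x))

/-- The dimension does not change under algebraic extensions of the ground field. -/
theorem dim_baseChange {K : Type u} [Field K] {X : Scheme.{u}}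
    (a : X ⟶ Spec (CommRingCat.of K)) (R : Type u) [Field R] [Algebra K R]
    [Algebra.IsIntegral K R] :
    topologicalKrullDim ↥(pullback a (Spec.map (CommRingCat.ofHom (algebraMap K R)))) =
      topologicalKrullDim X := by
  let e : Spec (CommRingCat.of R) ⟶ Spec (CommRingCat.of K) :=
    Spec.map (CommRingCat.ofHom (algebraMap K R))
  have hint : IsIntegralHom e := by
    rw [IsIntegralHom.SpecMap_iff]
    exact algebraMap_isIntegral_iff.2 inferInstance
  have hsurj : Surjective e := ⟨fun x => ⟨default, Subsingleton.elim _ _⟩⟩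
  have hg : IsIntegralHom (pullback.fst a e) := inferInstance
  have hg' : Surjective (pullback.fst a e) := inferInstance
  exact Sga3C.DimTop.topologicalKrullDim_eq_of_isIntegralHom (pullback.fst a e)

theorem quasiSeparatedSpace_of_field {K : Type u} [Field K] {X : Scheme.{u}}
    (a : X ⟶ Spec (CommRingCat.of K)) [LocallyOfFiniteType a] : QuasiSeparatedSpace X := by
  have : IsLocallyNoetherian X := LocallyOfFiniteType.isLocallyNoetherian a
  infer_instance

theorem quasiSeparated_of_field {K : Type u} [Field K] {X Y : Scheme.{u}}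
    (a : X ⟶ Spec (CommRingCat.of K)) [LocallyOfFiniteType a] (f : X ⟶ Y) : QuasiSeparated f := by
  have := quasiSeparatedSpace_of_field a
  infer_instance

end Groth.Agent.EtpbcA.CdFinDim
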