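import Groth.Agent.Etbase.StalkPull
import Groth.Agent.Etbase.PointBasics
import Mathlib.CategoryTheory.Sites.Point.Skyscraper

/-!
# Germs of inverse images

Every germ of `f⁻¹ H` at a geometric point `ξ` is the germ of (the image under the unit of) a section of
`H` over an étale neighbourhood of `ξ ≫ f`: `gm_surj`.
-/

set_option autoImplicit false
universe u

open CategoryTheory CategoryTheory.Limits AlgebraicGeometry Opposite

namespace Groth.Agent.EtpbcA.CdGerm

open Groth.Agent.Etbase.StalkPull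

variable {X Y : Scheme.{u}} (f : X ⟶ Y) {Ω : Type u} [Field Ω] [IsSepClosed Ω]
  (ξ : Spec (CommRingCat.of Ω) ⟶ X) (H : EtCoh.Ab Y)

/-- The unit on sections. -/
noncomputable def unt (V : Y.Etale) :
    H.obj.obj (op V) ⟶ ((EtCoh.pull f).obj H).obj.obj (op ((EtCoh.bc f).obj V)) :=
  ((EtCoh.pullPushAdj f).unit.app H).hom.app (op V)

@[reassoc]
theorem unt_natural {V V' : Y.Etale} (a : V' ⟶ V) :
    H.obj.map a.op ≫ unt f H V' =
      unt f H V ≫ ((EtCoh.pull f).obj H).obj.map ((EtCoh.bc f).map a).op :=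
  ((EtCoh.pullPushAdj f).unit.app H).hom.naturality a.op

/-- The map from sections of `H` to the stalk of `f⁻¹ H`. -/
noncomputable def gm (V : Y.Etale) (y : (Scheme.pointSmallEtale (ξ ≫ f)).fiber.obj V) :
    H.obj.obj (op V) ⟶ (Scheme.pointSmallEtale ξ).presheafFiber.obj ((EtCoh.pull f).obj H).obj :=
  unt f H V ≫
    (Scheme.pointSmallEtale ξ).toPresheafFiber ((EtCoh.bc f).obj V) (fiberEquiv f ξ V y)
      ((EtCoh.pull f).obj H).obj

theorem fiberEquiv_natural {V V' : Y.Etale} (a : V' ⟶ V)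
    (y' : (Scheme.pointSmallEtale (ξ ≫ f)).fiber.obj V') :
    fiberEquiv f ξ V ((Scheme.pointSmallEtale (ξ ≫ f)).fiber.map a y') =
      (Scheme.pointSmallEtale ξ).fiber.map ((EtCoh.bc f).map a) (fiberEquiv f ξ V' y') := by
  have h := NatTrans.naturality_apply (fiberIso f ξ).hom a y'
  have e : ∀ W, (fiberIso f ξ).hom.app W = (fiberEquiv f ξ W).toIso.hom := fun W => rfl
  rw [e, e] at h
  exact h

theorem gm_comp {M : AddCommGrpCat.{u+1}}
    (r : (Scheme.pointSmallEtale ξ).presheafFiber.obj ((EtCoh.pull f).obj H).obj ⟶ M) (V : Y.Etale)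
    (y : (Scheme.pointSmallEtale (ξ ≫ f)).fiber.obj V) :
    gm f ξ H V y ≫ r = unt f H V ≫
      ((Scheme.pointSmallEtale ξ).skyscraperPresheafHomEquiv r).app (op ((EtCoh.bc f).obj V)) ≫
        Pi.π (fun (_ : (Scheme.pointSmallEtale ξ).fiber.obj ((EtCoh.bc f).obj V)) => M)
          (fiberEquiv f ξ V y) := by
  rw [(Scheme.pointSmallEtale ξ).skyscraperPresheafHomEquiv_app_π, gm, Category.assoc]

theorem gm_w {V V' : Y.Etale} (a : V' ⟶ V) (y' : (Scheme.pointSmallEtale (ξ ≫ f)).fiber.obj V') :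
    H.obj.map a.op ≫ gm f ξ H V' y' =
      gm f ξ H V ((Scheme.pointSmallEtale (ξ ≫ f)).fiber.map a y') := by
  rw [gm, gm, fiberEquiv_natural, unt_natural_assoc, GrothendieckTopology.Point.toPresheafFiber_w]

theorem gm_surj (p : ((Scheme.pointSmallEtale ξ).presheafFiber.obj ((EtCoh.pull f).obj H).obj :
      AddCommGrpCat.{u+1})) :
    ∃ (V : Y.Etale) (y : (Scheme.pointSmallEtale (ξ ≫ f)).fiber.obj V) (h : H.obj.obj (op V)),
      gm f ξ H V y h = p := by
  let S : AddSubgroup ((Scheme.pointSmallEtale ξ).presheafFiber.obj ((EtCoh.pull f).obj H).obj :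
      AddCommGrpCat.{u+1}) :=
    { carrier := {p | ∃ (V : Y.Etale) (y : (Scheme.pointSmallEtale (ξ ≫ f)).fiber.obj V)
        (h : H.obj.obj (op V)), gm f ξ H V y h = p}
      add_mem' := by
        rintro _ _ ⟨V, y, h, rfl⟩ ⟨V', y', h', rfl⟩
        let e1 : (Scheme.pointSmallEtale (ξ ≫ f)).fiber.Elements := ⟨V, y⟩
        let e2 : (Scheme.pointSmallEtale (ξ ≫ f)).fiber.Elements := ⟨V', y'⟩
        obtain ⟨⟨W, z⟩, ⟨a, ha⟩, ⟨b, hb⟩, -⟩ := IsCofilteredOrEmpty.cone_objs e1 e2
        dsimp [e1, e2] at a b ha hb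
        refine ⟨W, z, H.obj.map a.op h + H.obj.map b.op h', ?_⟩
        rw [map_add]
        congr 1
        · have := ConcreteCategory.congr_hom (gm_w f ξ H a z) h
          rw [ha] at this
          exact this
        · have := ConcreteCategory.congr_hom (gm_w f ξ H b z) h'
          rw [hb] at this
          exact this
      zero_mem' := by
        obtain ⟨⟨W, z⟩⟩ : Nonempty (Scheme.pointSmallEtale (ξ ≫ f)).fiber.Elements :=
          IsCofiltered.nonempty
        exact ⟨W, z, 0, map_zero _⟩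
      neg_mem' := by
        rintro _ ⟨V, y, h, rfl⟩
        exact ⟨V, y, -h, map_neg _ _⟩ }
  let M : AddCommGrpCat.{u+1} := AddCommGrpCat.of
    (((Scheme.pointSmallEtale ξ).presheafFiber.obj ((EtCoh.pull f).obj H).obj :
      AddCommGrpCat.{u+1}) ⧸ S)
  let q : (Scheme.pointSmallEtale ξ).presheafFiber.obj ((EtCoh.pull f).obj H).obj ⟶ M :=
    AddCommGrpCat.ofHom (QuotientAddGroup.mk' S)
  have hq : q = 0 := by
    let e1 := (Scheme.pointSmallEtale ξ).skyscraperSheafAdjunction.homEquiv
      ((EtCoh.pull f).obj H) M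
    let e2 := (EtCoh.pullPushAdj f).homEquiv H ((Scheme.pointSmallEtale ξ).skyscraperSheaf M)
    have h0 : e2 (e1 q) = e2 (e1 0) := by
      have h1 : ∀ (r : (Scheme.pointSmallEtale ξ).presheafFiber.obj ((EtCoh.pull f).obj H).obj ⟶ M)
          (V : Y.Etaleᵒᵖ), (e2 (e1 r)).hom.app V = unt f H V.unop ≫
            ((Scheme.pointSmallEtale ξ).skyscraperPresheafHomEquiv r).app
              (op ((EtCoh.bc f).obj V.unop)) := by
        intro r V
        have k1 : (e1 r).hom = (Scheme.pointSmallEtale ξ).skyscraperPresheafHomEquiv r :=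
          (Scheme.pointSmallEtale ξ).skyscraperSheafAdjunction_homEquiv_apply_hom r
        rw [← k1]
        dsimp only [e2]
        rw [Adjunction.homEquiv_unit]
        rfl
      apply Sheaf.hom_ext
      apply NatTrans.ext
      funext V
      rw [h1, h1]
      apply Limits.Pi.hom_ext
      intro y
      obtain ⟨y, rfl⟩ := (fiberEquiv f ξ V.unop).surjective y
      have h2 := gm_comp f ξ H q V.unop y
      have h3 := gm_comp f ξ H (0 : _ ⟶ M) V.unop y
      have h4 : gm f ξ H V.unop y ≫ q = gm f ξ H V.unop y ≫ 0 := by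
        rw [comp_zero]
        ext h
        change QuotientAddGroup.mk' S (gm f ξ H V.unop y h) = 0
        exact (QuotientAddGroup.eq_zero_iff _).2 ⟨V.unop, y, h, rfl⟩
      exact (Category.assoc _ _ _).trans
        ((h2.symm.trans (h4.trans h3)).trans (Category.assoc _ _ _).symm)
    exact e1.injective (e2.injective h0)
  have : QuotientAddGroup.mk' S p = 0 := by
    change q p = 0
    rw [hq]
    rfl
  have hp : p ∈ S := (QuotientAddGroup.eq_zero_iff p).1 this
  exact hp

end Groth.Agent.EtpbcA.CdGerm
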