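import Groth.Agent.EtpbcA.CdDiesEt
import Groth.Agent.EtpbcA.CdEtLeray
import Groth.Agent.EtpbcA.CdExact
import Groth.Agent.EtpbcA.RpushTors

/-!
# Leray and support criteria in the form `p + q = n`, and vanishing of stalks of `R^q f_*` from
vanishing of cohomology of cofinal étale neighbourhoods
-/

set_option autoImplicit false
universe u

open CategoryTheory CategoryTheory.Limits CategoryTheory.Abelian AlgebraicGeometry Opposite

namespace Groth.Agent.EtpbcA.CdT1

open Groth.Agent.EtpbcA.SectCoh Groth.Agent.EtpbcA.RpushTors Groth.Agent.Etbase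

variable {X Y Z : Scheme.{u}}

/-- Leray, all terms in one hypothesis. -/
theorem H_subsingleton_of_Rpush (f : X ⟶ Y) (F : EtCoh.Ab X) (n : ℕ)
    (h : ∀ p q, p + q = n → Subsingleton (EtCoh.H Y ((EtCoh.Rpush f q).obj F) p)) :
    Subsingleton (EtCoh.H X F n) := by
  refine CdEtLeray.H_subsingleton_of_leray f F n ?_ fun p q hpq => h p (q + 1) hpq
  have := CdExact.push_preservesFiniteLimits f
  exact CdEtLeray.H_subsingleton_of_iso ((EtCoh.push f).rightDerivedZeroIsoSelf.app F) n (h n 0 (by omega))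

/-- Leray for supports, all terms in one hypothesis. -/
theorem supp_Rpush_comp (f : X ⟶ Y) (g : Y ⟶ Z) (F : EtCoh.Ab X) (n : ℕ) (z : Z)
    (h : ∀ p q, p + q = n → z ∉ EtPBC.supp ((EtCoh.Rpush g p).obj ((EtCoh.Rpush f q).obj F))) :
    z ∉ EtPBC.supp ((EtCoh.Rpush (f ≫ g) n).obj F) := by
  refine CdDiesEt.not_mem_supp_Rpush_comp f g F n z ?_ fun p q hpq => h p (q + 1) hpq
  have := CdExact.push_preservesFiniteLimits f
  rw [← Artin.supp_congr ((EtCoh.Rpush g n).mapIso ((EtCoh.push f).rightDerivedZeroIsoSelf.app F))]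
  exact h n 0 (by omega)

/-- No sections when `H^0` vanishes. -/
theorem sect_subsingleton_of_H_zero (F : EtCoh.Ab X) (W : X.Etale)
    (h : Subsingleton (EtCoh.H W.left ((EtCoh.pull W.hom).obj F) 0)) :
    Subsingleton (EtCoh.sect F W) := by
  have h1 : Subsingleton ((constantSheaf W.left.smallEtaleTopology AddCommGrpCat.{u + 1}).obj
      (AddCommGrpCat.of (ULift ℤ)) ⟶ (EtCoh.pull W.hom).obj F) :=
    Ext.homEquiv₀.symm.injective.subsingleton
  let e := (Groth.Agent.Sga4h.EtaleRes.pullIsoRestr W.hom).app F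
  have h2 : Subsingleton ((constantSheaf W.left.smallEtaleTopology AddCommGrpCat.{u + 1}).obj
      (AddCommGrpCat.of (ULift ℤ)) ⟶ (EtShriek.restrAlong W.hom).obj F) := by
    refine ⟨fun a b => ?_⟩
    rw [← cancel_mono e.inv]
    exact Subsingleton.elim _ _
  have h3 := @Function.Injective.subsingleton _ _ _
    (homEquivTop ((EtShriek.restrAlong W.hom).obj F)).symm.injective h2
  exact @Function.Injective.subsingleton _ _ _ (sectIso W F).injective h3

/-- Vanishing of the stalk of a homology sheaf. -/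
theorem not_mem_supp_homology (K : CochainComplex (EtCoh.Ab Y) ℕ) (n : ℕ) (y : Y)
    (h : ∀ (V : Y.Etale) (v : V.left), V.hom v = y → ∃ (W : Y.Etale) (g : W ⟶ V) (w : W.left),
      g.left w = v ∧ ∀ z : EtCoh.sect (K.X (n + 1)) W,
      (K.d (n + 1) (n + 1 + 1)).hom.app (op W) z = 0 → ∃ y : EtCoh.sect (K.X n) W,
        (K.d n (n + 1)).hom.app (op W) y = z) :
    y ∉ EtPBC.supp (K.homology (n + 1)) := by
  rw [Artin.not_mem_supp_iff]
  intro U s x hx
  obtain ⟨V, g, v, hV, hv, t, ht⟩ := exists_cycle_section K (n + 1) U s x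
  obtain ⟨W, k, w, hw, hW⟩ := h V v (((CdDiesEt.hom_left g v).trans (congrArg _ hv)).trans hx)
  refine ⟨W, k ≫ g, ⟨w, ?_⟩, ?_⟩
  · rw [← hv, ← hw]; rfl
  · obtain ⟨b, hb⟩ := hW ((K.iCycles (n + 1)).hom.app (op W) ((K.cycles (n + 1)).obj.map k.op t))
      (iCycles_d_app K (n + 1) W _)
    have h2 := homologyπ_eq_zero K n W ((K.cycles (n + 1)).obj.map k.op t) b hb
    rw [← EtSections.map_map, ← ht]
    refine Eq.trans ?_ h2
    exact (NatTrans.naturality_apply (K.homologyπ (n + 1)).hom k.op t).symm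

theorem exists_coboundary {F : EtCoh.Ab X} (I : InjectiveResolution F) (W : X.Etale) (n : ℕ)
    (h : Subsingleton (EtCoh.H W.left ((EtCoh.pull W.hom).obj F) (n + 1)))
    (z : EtCoh.sect (I.cocomplex.X (n + 1)) W)
    (hz : (I.cocomplex.d (n + 1) (n + 1 + 1)).hom.app (op W) z = 0) :
    ∃ y : EtCoh.sect (I.cocomplex.X n) W, (I.cocomplex.d n (n + 1)).hom.app (op W) y = z :=
  (cls_eq_zero_iff I W ⟨z, hz⟩).1 (Subsingleton.elim _ _)

/-- The stalk of `R^q f_* F` at `y` vanishes if cofinally many étale neighbourhoods `W` of `y` have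
`H^q(W ×_Y X, F) = 0`. -/
theorem not_mem_supp_Rpush (f : X ⟶ Y) (F : EtCoh.Ab X) (q : ℕ) (y : Y)
    (h : ∀ (V : Y.Etale) (v : V.left), V.hom v = y → ∃ (W : Y.Etale) (g : W ⟶ V) (w : W.left),
      g.left w = v ∧ Subsingleton (EtCoh.H ((EtCoh.bc f).obj W).left
        ((EtCoh.pull ((EtCoh.bc f).obj W).hom).obj F) q)) :
    y ∉ EtPBC.supp ((EtCoh.Rpush f q).obj F) := by
  cases q with
  | zero =>
    have := CdExact.push_preservesFiniteLimits f
    rw [Artin.supp_congr ((EtCoh.push f).rightDerivedZeroIsoSelf.app F), Artin.not_mem_supp_iff]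
    intro U s x hx
    obtain ⟨W, g, w, hw, hW⟩ := h U x hx
    have h1 : Subsingleton (EtCoh.sect ((EtCoh.push f).obj F) W) :=
      sect_subsingleton_of_H_zero F ((EtCoh.bc f).obj W) hW
    exact ⟨W, g, ⟨w, hw⟩, Subsingleton.elim _ _⟩
  | succ n =>
    let I : InjectiveResolution F := injectiveResolution F
    have key : y ∉ EtPBC.supp
        ((((EtCoh.push f).mapHomologicalComplex (ComplexShape.up ℕ)).obj I.cocomplex).homology (n + 1)) :=
      not_mem_supp_homology _ n y fun V v hv => by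
        obtain ⟨W, g, w, hw, hW⟩ := h V v hv
        exact ⟨W, g, w, hw, fun z hz => exists_coboundary I ((EtCoh.bc f).obj W) n hW z hz⟩
    rwa [Artin.supp_congr (I.isoRightDerivedObj (EtCoh.push f) (n + 1))]

end Groth.Agent.EtpbcA.CdT1
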