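import Groth.Agent.EtpbcA.ClosedEpi
import Groth.Agent.Etbase.PushExact

/-!
# Direct image along a closed immersion is exact
-/

set_option autoImplicit false
universe u

open CategoryTheory CategoryTheory.Limits AlgebraicGeometry Opposite

namespace Groth.Agent.EtpbcA.ClosedPushExact

variable {Z X : Scheme.{u}} (i : Z ⟶ X) [IsClosedImmersion i]

theorem push_epi {F G : EtCoh.Ab Z} (φ : F ⟶ G) [Epi φ] : Epi ((EtCoh.push i).map φ) := by
  refine Etcore.Stalks.epi_of_stalks _ fun x => ?_
  by_cases hx : x ∈ Set.range i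
  · obtain ⟨z, hz⟩ := hx
    obtain ⟨Ω, _, _, ζ, hζ⟩ := Etcore.Stalks.exists_geom z
    refine ⟨Ω, inferInstance, inferInstance, ζ ≫ i, ?_, ?_⟩
    · rw [← hz, ← hζ]; rfl
    · obtain ⟨h1, h2⟩ := S0067.result i
      have h3 : IsIso (EtCoh.pullPushAdj i).counit :=
        Adjunction.counit_isIso_of_R_fully_faithful _
      have h5 : Epi ((EtCoh.pull i).map ((EtCoh.push i).map φ)) := by
        have h6 := (EtCoh.pullPushAdj i).counit.naturality φ
        have h7 : (EtCoh.pull i).map ((EtCoh.push i).map φ) =
            (EtCoh.pullPushAdj i).counit.app F ≫ φ ≫ inv ((EtCoh.pullPushAdj i).counit.app G) := by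
          rw [← Category.assoc, IsIso.eq_comp_inv]
          exact h6
        rw [h7]
        infer_instance
      have h8 : Epi ((EtCoh.stalk ζ).map ((EtCoh.pull i).map ((EtCoh.push i).map φ))) :=
        inferInstance
      have h9 : Epi ((EtCoh.stalk (ζ ≫ i)).map ((EtCoh.push i).map φ)) := by
        have h10 := (Etbase.StalkPull.stalkPullIso i ζ).hom.naturality ((EtCoh.push i).map φ)
        have h11 : (EtCoh.stalk (ζ ≫ i)).map ((EtCoh.push i).map φ) =
            (Etbase.StalkPull.stalkPullIso i ζ).hom.app _ ≫
            (EtCoh.stalk ζ).map ((EtCoh.pull i).map ((EtCoh.push i).map φ)) ≫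
            (Etbase.StalkPull.stalkPullIso i ζ).inv.app _ := by
          have h12 := congrArg (fun t => t ≫ (Etbase.StalkPull.stalkPullIso i ζ).inv.app _) h10
          simp only [Category.assoc, Iso.hom_inv_id_app, Category.comp_id] at h12
          exact h12
        rw [h11]
        infer_instance
      exact (AddCommGrpCat.epi_iff_surjective _).1 h9
  · obtain ⟨Ω, _, _, ξ, hξ⟩ := Etcore.Stalks.exists_geom x
    refine ⟨Ω, inferInstance, inferInstance, ξ, hξ, ?_⟩
    have h1 : IsZero ((EtCoh.stalk ξ).obj ((EtCoh.push i).obj G)) := by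
      refine S0069.result i _ ξ ?_
      rw [Set.disjoint_left]
      rintro _ ⟨a, rfl⟩ hb
      have : a = default := Subsingleton.elim _ _
      subst this
      exact hx (hξ ▸ hb)
    have h2 := AddCommGrpCat.subsingleton_of_isZero h1
    exact fun b => ⟨0, Subsingleton.elim _ _⟩

/-- Direct image along a closed immersion is exact. -/
theorem push_preservesFiniteColimits : PreservesFiniteColimits (EtCoh.push i) := by
  have : PreservesFiniteLimits (EtCoh.push i) := inferInstance
  refine (EtCoh.push i).preservesFiniteColimits_iff_forall_exact_map_and_epi.2 ?_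
  intro S hS
  have h1 := (EtCoh.push i).preservesFiniteLimits_iff_forall_exact_map_and_mono.1 this S hS
  have := hS.epi_g
  exact ⟨h1.1, push_epi i S.g⟩

/-- Higher direct images along a closed immersion vanish. -/
theorem isZero_Rpush (F : EtCoh.Ab Z) (q : ℕ) (hq : 1 ≤ q) :
    IsZero ((EtCoh.Rpush i q).obj F) := by
  obtain ⟨n, rfl⟩ : ∃ n, q = n + 1 := ⟨q - 1, by omega⟩
  have := push_preservesFiniteColimits i
  exact Etbase.PushExact.isZero_rightDerived_of_exact (EtCoh.push i) F n

end Groth.Agent.EtpbcA.ClosedPushExact
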