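import Groth.Prelude.Def_PBC
import Groth.Agent.EtpbcA.ArtinSupp
import Groth.Agent.EtpbcA.KilledBy
import Groth.Agent.EtpbcA.SubSheaf
import Mathlib.AlgebraicGeometry.Noetherian

/-!
# Supports of constructible sheaves on Noetherian schemes

* `isClosed_supp_of_isFLC`
* `closure_supp_subset`: if `G` is constructible on a Noetherian scheme and its support lies in a
  set `E` stable under specialization then so does the closure of the support.
-/

set_option autoImplicit false
universe u
open CategoryTheory CategoryTheory.Limits AlgebraicGeometry Opposite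

namespace Groth.Agent.EtpbcA.SuppCons

open Groth.Agent.EtpbcA.Germ Groth.Agent.EtpbcA.FLC Groth.Agent.EtpbcA.Artin

variable {X : Scheme.{u}}

theorem isClosed_supp_of_isFLC {G : EtCoh.Ab X} (hG : EtCoh.IsFiniteLocallyConstant G) :
    IsClosed (EtPBC.supp G) := by
  rw [← isOpen_compl_iff, isOpen_iff_forall_mem_open]
  intro x hx
  obtain ⟨Ω, _, _, ξ, hξ⟩ := Artin.exists_point x
  have hx0 := (range_eq_iff ξ x).1 hξ
  rw [Set.mem_compl_iff, mem_supp_iff G x ξ hξ, not_not] at hx
  rw [flc_iff] at hG
  obtain ⟨U, v, M, _, _, φ, hu, hφ⟩ := hG x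
  obtain ⟨t, -⟩ := KilledBy.exists_fib ξ v (hu.trans hx0.symm)
  have hsub : Subsingleton M := by
    have h1 := AddCommGrpCat.subsingleton_of_isZero hx
    exact (hφ Ω ξ t).1.subsingleton
  refine ⟨Set.range U.hom, ?_, U.hom.isOpenMap.isOpen_range, ⟨v, hu⟩⟩
  rintro _ ⟨w, rfl⟩
  obtain ⟨Ω', _, _, ξ', hξ'⟩ := Artin.exists_point (U.hom w)
  have hx0' := (range_eq_iff ξ' _).1 hξ'
  rw [Set.mem_compl_iff, mem_supp_iff G _ ξ' hξ', not_not]
  obtain ⟨t', -⟩ := KilledBy.exists_fib ξ' w hx0'.symm
  rw [AddCommGrpCat.isZero_iff_subsingleton]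
  exact (hφ Ω' ξ' t').2.subsingleton

theorem closure_supp_subset [IsNoetherian X] {G : EtCoh.Ab X} (hG : EtPBC.IsConstructible G)
    {E : Set X} (hE : StableUnderSpecialization E) (h : EtPBC.supp G ⊆ E) :
    closure (EtPBC.supp G) ⊆ E := by
  obtain ⟨n, T, g, hg, -, -, hun, hflc⟩ := (StrataGlob.isConstructible_iff_univ G).mp hG
  have h1 : EtPBC.supp G = ⋃ i, g i '' (EtPBC.supp ((EtCoh.pull (g i)).obj G)) := by
    ext x
    simp only [supp_pull, Set.mem_iUnion]
    constructor
    · intro hx
      have : x ∈ ⋃ i, Set.range (g i) := hun ▸ Set.mem_univ _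
      obtain ⟨i, y, rfl⟩ := Set.mem_iUnion.mp this
      exact ⟨i, y, hx, rfl⟩
    · rintro ⟨i, y, hy, rfl⟩
      exact hy
  rw [h1, closure_iUnion_of_finite]
  refine Set.iUnion_subset fun i => ?_
  have := hg i
  have hN : TopologicalSpace.NoetherianSpace (T i) :=
    (g i).isEmbedding.isInducing.noetherianSpace
  have hC := isClosed_supp_of_isFLC (hflc i)
  obtain ⟨S, hS, hcl, hirr, hSC⟩ :=
    TopologicalSpace.NoetherianSpace.exists_finite_set_isClosed_irreducible hC
  intro z hz
  rw [hSC, Set.sUnion_eq_biUnion, Set.image_iUnion₂, hS.closure_biUnion] at hz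
  simp only [Set.mem_iUnion] at hz
  obtain ⟨t, ht, hz⟩ := hz
  have hη := (hirr t ht).isGenericPoint_genericPoint (hcl t ht)
  set η := (hirr t ht).genericPoint
  have hmem : η ∈ EtPBC.supp ((EtCoh.pull (g i)).obj G) := by
    rw [hSC]
    exact ⟨t, ht, hη.mem⟩
  rw [supp_pull] at hmem
  refine hE ?_ (h hmem)
  rw [specializes_iff_mem_closure]
  refine closure_minimal ?_ isClosed_closure hz
  rintro _ ⟨y, hy, rfl⟩
  have h2 : η ⤳ y := hη.specializes hy
  exact (h2.map (g i).continuous).mem_closure

/-- The support of a subsheaf is contained in the support. -/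
theorem supp_subset_of_mono {F G : EtCoh.Ab X} (φ : G ⟶ F) [Mono φ] :
    EtPBC.supp G ⊆ EtPBC.supp F := by
  intro x hx
  by_contra hF
  apply hx.elim
  intro Ω h
  obtain ⟨_, _, ξ, hξ, h⟩ := h
  rw [mem_supp_iff F x ξ hξ, not_not] at hF
  exact h (IsZero.of_mono ((EtCoh.stalk ξ).map φ) hF)

section Image

variable {J : Type*} [Category* J] {D : J ⥤ EtCoh.Ab X}

/-- The diagram of images of the terms of a diagram in the vertex of a cocone. -/
noncomputable def imD (c : Cocone D) : J ⥤ EtCoh.Ab X where
  obj j := image (c.ι.app j)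
  map {a b} f := image.lift
    { I := image (c.ι.app b), m := image.ι _, e := D.map f ≫ factorThruImage _,
      fac := by rw [Category.assoc, image.fac, c.w] }
  map_id a := by
    rw [← cancel_mono (image.ι (c.ι.app a)), image.lift_fac, Category.id_comp]
  map_comp {a b d} f g := by
    rw [← cancel_mono (image.ι (c.ι.app d)), image.lift_fac, Category.assoc, image.lift_fac,
      image.lift_fac]

/-- The cocone of images. -/
noncomputable def imC (c : Cocone D) : Cocone (imD c) where
  pt := c.pt
  ι := { app := fun j => image.ι (c.ι.app j)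
         naturality := fun a b f => by
          refine (image.lift_fac _).trans (Category.comp_id _).symm }

/-- The projections onto the images. -/
noncomputable def imE (c : Cocone D) (j : J) : D.obj j ⟶ (imD c).obj j := factorThruImage (c.ι.app j)

instance (c : Cocone D) (j : J) : Epi (imE c j) := inferInstanceAs (Epi (factorThruImage (c.ι.app j)))

instance (c : Cocone D) (j : J) : Mono ((imC c).ι.app j) :=
  inferInstanceAs (Mono (image.ι (c.ι.app j)))

theorem imE_ι (c : Cocone D) (j : J) : imE c j ≫ (imC c).ι.app j = c.ι.app j :=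
  image.fac (c.ι.app j)

theorem imE_map (c : Cocone D) {a b : J} (f : a ⟶ b) :
    imE c a ≫ (imD c).map f = D.map f ≫ imE c b := by
  rw [← cancel_mono ((imC c).ι.app b), Category.assoc, Category.assoc, (imC c).w, imE_ι, imE_ι]
  exact (c.w f).symm

/-- The cocone on `D` induced by a cocone on the images. -/
noncomputable def coconeOfIm (c : Cocone D) (s : Cocone (imD c)) : Cocone D where
  pt := s.pt
  ι := { app := fun j => imE c j ≫ s.ι.app j
         naturality := fun a b f => by
          refine Eq.trans ?_ (Category.comp_id _).symm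
          rw [← Category.assoc, ← imE_map, Category.assoc, s.w] }

/-- The images of the terms of a colimit diagram still have the same colimit. -/
noncomputable def imCIsColimit {c : Cocone D} (hc : IsColimit c) : IsColimit (imC c) where
  desc s := hc.desc (coconeOfIm c s)
  fac s j := by
    rw [← cancel_epi (imE c j)]
    refine (Category.assoc _ _ _).symm.trans ?_
    refine (congrArg (· ≫ hc.desc (coconeOfIm c s)) (imE_ι c j)).trans ?_
    exact hc.fac (coconeOfIm c s) j
  uniq s m hm := by
    refine hc.uniq (coconeOfIm c s) m fun j => ?_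
    change _ = imE c j ≫ s.ι.app j
    rw [← hm j]
    refine Eq.trans ?_ (Category.assoc _ _ _)
    exact congrArg (· ≫ m) (imE_ι c j).symm

end Image

end Groth.Agent.EtpbcA.SuppCons
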