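import Groth.Agent.EtpbcA.TorsionColim
import Groth.Agent.EtpbcA.SuppCons
import Groth.Agent.EtpbcA.SuppClosed
import Groth.Agent.EtpbcA.ConsLocus
import Groth.Agent.EtpbcA.ConsExact
import Groth.Agent.EtpbcB.GeomPointIndep
import Groth.Agent.Sga4B.NoethStrata

/-!
# Torsion sheaves vanishing at a point are filtered colimits of constructible sheaves vanishing there

* `isLocallyConstructible_compl_supp`: the support of a constructible sheaf is locally constructible
* `exists_closed_of_generic`: if `X` is qcqs irreducible and the generic point is not in the support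
  of the constructible `F`, then the support lies in a closed set avoiding the generic point.
* `exists_filtered_notMem`: a torsion sheaf with `x ∉ supp F` is a filtered colimit of constructible
  sheaves `D j` with `x ∉ supp (D j)`.
-/

set_option autoImplicit false
universe u w₁ w₂
open CategoryTheory CategoryTheory.Limits AlgebraicGeometry Opposite Topology

namespace Groth.Agent.EtpbcA.ColimNonGeneric

open Groth.Agent.EtpbcA.Artin Groth.Agent.EtpbcA.ConsVan Groth.Agent.EtpbcA.ConsLocus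
  Groth.Agent.EtpbcA.TorsionColim Groth.Agent.EtpbcA.FiltColimCrit Groth.Agent.EtpbcA.StalkTools
  Groth.Agent.EtpbcA.SuppClosed Groth.Agent.EtpbcA.Present Groth.Agent.EtpbcA.FinType
  Groth.Agent.EtpbcA.Jshriek

variable {X : Scheme.{u}}

/-- the terminal object -/
noncomputable def tU (X : Scheme.{u}) : X.Etale := Scheme.Etale.mk (𝟙 X)

theorem surjAt_zero_iff (F : EtCoh.Ab X) (x : X) :
    SurjAt F (U := tU X) (0 : PUnit.{1} →+ EtCoh.sect F (tU X)) x ↔ x ∉ EtPBC.supp F := by
  rw [not_mem_supp_iff]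
  constructor
  · intro h U s v hv
    let p : U ⟶ tU X := MorphismProperty.Over.homMk U.hom (Category.comp_id _)
    obtain ⟨m, V, g, w, hw, h1⟩ := h U p v hv s
    refine ⟨V, g, ⟨w, hw⟩, ?_⟩
    have h2 : ConsVan.res F g (s - ConsVan.res F p 0) = 0 := h1
    rw [map_zero, sub_zero] at h2
    exact h2
  · intro h V g v hv t
    have hv' : V.hom v = x := by
      have : g.left ≫ (tU X).hom = V.hom := MorphismProperty.Over.w g
      rw [← this, Scheme.Hom.comp_apply, hv]
      rfl
    obtain ⟨W, k, ⟨w, hw⟩, h1⟩ := h V t v hv'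
    refine ⟨PUnit.unit, W, k, w, hw, ?_⟩
    change ConsVan.res F k (t - ConsVan.res F g 0) = 0
    rw [map_zero, sub_zero]
    exact h1

/-- The support of a constructible sheaf is locally constructible. -/
theorem isLocallyConstructible_compl_supp {F : EtCoh.Ab X} (hF : EtPBC.IsConstructible F) :
    IsLocallyConstructible (EtPBC.supp F)ᶜ := by
  have := isLocallyConstructible_surjAt hF (tU X) (0 : PUnit.{1} →+ EtCoh.sect F (tU X))
  have h : {c | SurjAt F (U := tU X) (0 : PUnit.{1} →+ EtCoh.sect F (tU X)) c} =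
      (EtPBC.supp F)ᶜ := by
    ext c
    exact surjAt_zero_iff F c
  rwa [h] at this

/-- Near each point outside of its support, the support of a constructible sheaf does not meet
the closure of that point. -/
theorem exists_open_of_notMem {F : EtCoh.Ab X} (hF : EtPBC.IsConstructible F) {x : X}
    (hx : x ∉ EtPBC.supp F) : ∃ O : Set X, IsOpen O ∧ x ∈ O ∧
      O ∩ closure {x} ⊆ (EtPBC.supp F)ᶜ := by
  obtain ⟨V, hV, hVo, hVc⟩ := isLocallyConstructible_compl_supp hF x
  obtain ⟨O, hO, hxO, h⟩ := Sga4B.NoethStrata.exists_open_inter_closure_subset hVc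
    (x := (⟨x, mem_of_mem_nhds hV⟩ : V)) hx
  refine ⟨(↑) '' O, hVo.isOpenMap_subtype_val _ hO, ⟨_, hxO, rfl⟩, ?_⟩
  rintro _ ⟨⟨y, hy, rfl⟩, hy'⟩
  refine h ⟨hy, ?_⟩
  rw [IsInducing.subtypeVal.closure_eq_preimage_closure_image, Set.image_singleton]
  exact hy'

theorem exists_closed_of_generic [IrreducibleSpace X] {F : EtCoh.Ab X}
    (hF : EtPBC.IsConstructible F) (hη : genericPoint X ∉ EtPBC.supp F) :
    ∃ Z : Set X, IsClosed Z ∧ genericPoint X ∉ Z ∧ EtPBC.supp F ⊆ Z := by
  obtain ⟨O, hO, hxO, h⟩ := exists_open_of_notMem hF hη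
  rw [genericPoint_closure, Set.inter_univ] at h
  exact ⟨Oᶜ, hO.isClosed_compl, fun h => h hxO, Set.subset_compl_comm.1 h⟩

theorem isConstructible_image {F G : EtCoh.Ab X} (φ : F ⟶ G) (hF : EtPBC.IsConstructible F)
    (hG : EtPBC.IsConstructible G) : EtPBC.IsConstructible (Limits.image φ) :=
  StrataGlob.isConstructible_of_iso (Abelian.imageIsoImage φ)
    (ConsExact.isConstructible_kernel (cokernel.π φ) hG (ConsExact.isConstructible_cokernel φ hF hG))

theorem locIm_postcomp {A F G : EtCoh.Ab X} {φ : A ⟶ F} (ψ : F ⟶ G) {U : X.Etale}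
    {s : EtCoh.sect F U} {x : U.left} (h : LocIm φ s x) :
    LocIm (φ ≫ ψ) (ψ.hom.app (op U) s) x := by
  obtain ⟨V, g, v, hv, t, ht⟩ := h
  refine ⟨V, g, v, hv, t, ?_⟩
  change ψ.hom.app (op V) (φ.hom.app (op V) t) = _
  rw [ht]
  exact ConcreteCategory.congr_hom (ψ.hom.naturality g.op) s

/-- Constructible torsion sheaves which vanish at `x`. -/
def nvP (x : X) : ObjectProperty (EtCoh.Ab X) :=
  fun F => consM X {m : ℕ | 0 < m} F ∧ x ∉ EtPBC.supp F

instance essentiallySmall_nvP [CompactSpace X] [QuasiSeparatedSpace X] (x : X) :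
    ObjectProperty.EssentiallySmall.{u + 1} (nvP x) :=
  ObjectProperty.EssentiallySmall.of_le (Q := consM X {m : ℕ | 0 < m}) (fun _ h => h.1)

theorem notMem_supp_iff' (F : EtCoh.Ab X) (x : X) {Ω : Type u} [Field Ω] [IsSepClosed Ω]
    (ξ : Spec (CommRingCat.of Ω) ⟶ X) (hξ : Set.range ξ = {x}) :
    x ∉ EtPBC.supp F ↔ IsZero ((EtCoh.stalk ξ).obj F) := by
  rw [mem_supp_iff F x ξ hξ, not_not]

theorem cl_nvP [CompactSpace X] [QuasiSeparatedSpace X] (x : X) : Cl (nvP x) where
  zero := by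
    obtain ⟨Z, hZ, hZ'⟩ := (cl_consM (X := X) dir_pos).zero
    exact ⟨Z, hZ, hZ', supp_eq_empty_of_isZero hZ x⟩
  biprod := by
    rintro A B ⟨hA, hA'⟩ ⟨hB, hB'⟩
    refine ⟨(cl_consM dir_pos).biprod A B hA hB, ?_⟩
    obtain ⟨Ω, _, _, ξ, hξ⟩ := exists_point x
    rw [notMem_supp_iff' _ x ξ hξ] at hA' hB' ⊢
    rw [IsZero.iff_id_eq_zero, ← (EtCoh.stalk ξ).map_id, ← biprod.total, Functor.map_add,
      Functor.map_comp, Functor.map_comp, hA'.eq_of_src ((EtCoh.stalk ξ).map biprod.inl) 0,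
      hB'.eq_of_src ((EtCoh.stalk ξ).map biprod.inr) 0, comp_zero, comp_zero, add_zero]
  cokernel := by
    rintro A B f ⟨hA, -⟩ ⟨hB, hB'⟩
    exact ⟨(cl_consM dir_pos).cokernel A B f hA hB,
      fun h => hB' (supp_of_epi (cokernel.π f) h)⟩

/-- If the finite stalk of a stage dies in the colimit then it dies at a later stage. -/
theorem exists_stalk_map_eq_zero {J : Type w₁} [Category.{w₂} J] [IsFiltered J]
    [PreservesColimitsOfShape J (forget AddCommGrpCat.{u + 1})]
    {D : J ⥤ EtCoh.Ab X} {c : Cocone D} (hc : IsColimit c) {Ω : Type u} [Field Ω] [IsSepClosed Ω]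
    (ξ : Spec (CommRingCat.of Ω) ⟶ X) (h0 : IsZero ((EtCoh.stalk ξ).obj c.pt)) (j : J)
    [Finite ((EtCoh.stalk ξ).obj (D.obj j))] :
    ∃ (k : J) (f : j ⟶ k), (EtCoh.stalk ξ).map (D.map f) = 0 := by
  classical
  have h := isColimitOfPreserves (EtCoh.stalk ξ) hc
  have key : ∀ S : Finset ((EtCoh.stalk ξ).obj (D.obj j)), ∃ (k : J) (f : j ⟶ k), ∀ a ∈ S,
      (EtCoh.stalk ξ).map (D.map f) a = 0 := by
    intro S
    induction S using Finset.induction_on with
    | empty => exact ⟨j, 𝟙 j, by simp⟩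
    | insert a S ha ih =>
      obtain ⟨k, f, hf⟩ := ih
      obtain ⟨l, g, hg⟩ := CohtopA.FiltColim.exists_map_eq_zero h k
        ((EtCoh.stalk ξ).map (D.map f) a)
        ((AddCommGrpCat.subsingleton_of_isZero h0).elim _ _)
      refine ⟨l, f ≫ g, fun b hb => ?_⟩
      rw [D.map_comp, Functor.map_comp]
      rcases Finset.mem_insert.1 hb with rfl | hb
      · exact hg
      · change (EtCoh.stalk ξ).map (D.map g) ((EtCoh.stalk ξ).map (D.map f) b) = 0
        rw [hf b hb, map_zero]
  have : Fintype ((EtCoh.stalk ξ).obj (D.obj j)) := Fintype.ofFinite _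
  obtain ⟨k, f, hf⟩ := key Finset.univ
  refine ⟨k, f, ?_⟩
  ext a
  exact hf a (Finset.mem_univ a)

/-- A torsion sheaf whose support does not contain `x` is a filtered colimit of constructible
sheaves with the same property. -/
theorem exists_filtered_notMem [CompactSpace X] [QuasiSeparatedSpace X] (F : EtCoh.Ab X)
    (hF : EtCoh.IsTorsion F) (x₀ : X) (hx₀ : x₀ ∉ EtPBC.supp F) :
    ∃ (J : Type (u + 1)) (_ : SmallCategory J) (_ : IsFiltered J) (D : J ⥤ EtCoh.Ab X)
      (c : Cocone D) (_ : IsColimit c), (∀ j, nvP x₀ (D.obj j)) ∧ Nonempty (c.pt ≅ F) := by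
  obtain ⟨J, hJ1, hJ2, D, c, hc, hD, ⟨i⟩⟩ := exists_filtered_consM dir_pos F (by
    intro U s x
    obtain ⟨V, g, ⟨v, hv⟩, h⟩ := hF U s x
    obtain ⟨n, hn, h0⟩ := isOfFinAddOrder_iff_nsmul_eq_zero.1 h
    exact ⟨V, g, v, hv, n, hn, h0⟩)
  obtain ⟨Ω, _, _, ξ, hξ⟩ := exists_point x₀
  apply exists_filtered (nvP x₀) (cl_nvP x₀) F
  · intro U s x
    obtain ⟨j, hj⟩ := SectColim.exists_local_rep hc U (i.inv.hom.app (op U) s) x
    have hz : IsZero ((EtCoh.stalk ξ).obj c.pt) := by
      rw [← notMem_supp_iff' _ x₀ ξ hξ, supp_congr i]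
      exact hx₀
    have := EtpbcB.GeomPointIndep.finite_stalk_of_constructible ξ (D.obj j) (hD j).1
    obtain ⟨k, f, hf⟩ := exists_stalk_map_eq_zero hc ξ hz j
    let I := Limits.image (D.map f)
    have hI : nvP x₀ I := by
      obtain ⟨hc1, m, hm, hk⟩ := hD j
      refine ⟨⟨isConstructible_image (D.map f) hc1 (hD k).1, m, hm,
        killedBy_of_epi (factorThruImage (D.map f)) hk⟩, ?_⟩
      rw [notMem_supp_iff' _ x₀ ξ hξ]
      refine IsZero.of_epi_eq_zero ((EtCoh.stalk ξ).map (factorThruImage (D.map f))) ?_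
      rw [← cancel_mono ((EtCoh.stalk ξ).map (image.ι (D.map f))), ← Functor.map_comp, image.fac,
        hf, zero_comp]
    refine ⟨I, hI, image.ι (D.map f) ≫ c.ι.app k ≫ i.hom, ?_⟩
    have h1 : LocIm (factorThruImage (D.map f) ≫ image.ι (D.map f) ≫ c.ι.app k)
        (i.inv.hom.app (op U) s) x := by
      rw [← Category.assoc, image.fac, c.w]
      exact hj
    have h2 := locIm_postcomp i.hom (locIm_comp _ _ h1)
    rw [Category.assoc] at h2
    convert h2 using 1
    change s = (i.inv ≫ i.hom).hom.app (op U) s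
    rw [i.inv_hom_id]
    rfl
  · rintro A ⟨⟨hA, a, ha, hka⟩, hA'⟩ f U t ht x
    obtain ⟨W, hW, l, w, hw⟩ := exists_affine_nhd U x
    have h1 : a • A.obj.map l.op t = 0 := by
      rw [← map_nsmul, hka, map_zero]
    let ψ := ofSect W a (A.obj.map l.op t) h1
    have hψ : ψ ≫ f = 0 := by
      apply ext_e
      change f.hom.app (op W) (ψ.hom.app (op W) (e W a)) = 0
      rw [ofSect_e]
      have := ConcreteCategory.congr_hom (f.hom.naturality l.op) t
      refine this.trans ?_
      change F.obj.map l.op (f.hom.app (op U) t) = 0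
      rw [ht, map_zero]
    refine ⟨W, l, w, hw, cokernel ψ, ⟨(cl_consM dir_pos).cokernel _ _ ψ
      (consM_extZeroConst dir_pos W a ha) ⟨hA, a, ha, hka⟩,
      fun h => hA' (supp_of_epi (cokernel.π ψ) h)⟩, cokernel.π ψ,
      cokernel.desc ψ f hψ, cokernel.π_desc _ _ _, ?_⟩
    have h2 := congrArg (fun z : EtPBC.extZeroConst W (ZMod a) ⟶ cokernel ψ =>
      z.hom.app (op W) (Jshriek.e W a)) (cokernel.condition ψ)
    refine Eq.trans ?_ h2
    change _ = (cokernel.π ψ).hom.app (op W) (ψ.hom.app (op W) (Jshriek.e W a))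
    rw [ofSect_e]

end Groth.Agent.EtpbcA.ColimNonGeneric
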