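import Groth.Agent.EtpbcA.OpenEquivAlg
import Groth.Agent.EtpbcA.SpecTop
import Mathlib.RingTheory.Spectrum.Prime.Topology
import Mathlib.RingTheory.Ideal.GoingDown
import Mathlib.RingTheory.Smooth.Flat
import Mathlib.RingTheory.Jacobson.Ideal

/-!
# Open equivalence relations on etale covers

`isOpen_of_generalizing` is the topological part, `exists_open` the statement for an etale algebra
`C` over a ring `A` with an ideal `I` in the Jacobson radical such that `V(I A')` is connected for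
all normalizations `A'` of `A` in algebraically closed fields: an open equivalence relation `E` on
`Spec C` over `Spec A` which contains everything over `V(I)` contains `U₀ ×_A U₀` for an open
`U₀` in `Spec C` surjecting onto `Spec A`.
-/

set_option autoImplicit false

open TensorProduct Topology Groth.Agent.EtpbcA.OpenEquivAlg

namespace Groth.Agent.EtpbcA.OpenEquiv

universe u

section Top

variable {U Y : Type u} [TopologicalSpace U] [TopologicalSpace Y] [PrespectralSpace U]
  [CompactSpace Y] [QuasiSober Y] [PrespectralSpace Y] [QuasiSeparatedSpace Y]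

omit [PrespectralSpace U] [CompactSpace Y] [QuasiSober Y] [PrespectralSpace Y]
  [QuasiSeparatedSpace Y] in
theorem isClosed_constructible_preimage (p : Y → U) (hp : Continuous p)
    (hp' : ∀ W : Set U, IsOpen W → IsCompact W → IsCompact (p ⁻¹' W)) {V : Set U}
    (hV : IsClosed[constructibleTopology U] V) : IsClosed[constructibleTopology Y] (p ⁻¹' V) := by
  have h : @Continuous _ _ (constructibleTopology Y) (constructibleTopology U) p := by
    refine @continuous_generateFrom_iff _ _ _ (constructibleTopology Y) _ |>.2 ?_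
    rintro s (⟨hs, hs'⟩ | ⟨hs, hs'⟩)
    · exact (hp' s hs hs').isOpen_constructibleTopology_of_isOpen (hs.preimage hp)
    · refine IsCompact.isOpen_constructibleTopology_of_isClosed ?_ (hs.preimage hp)
      rw [← Set.preimage_compl]
      exact hp' _ hs.isOpen_compl hs'
  exact @IsClosed.preimage _ _ (constructibleTopology Y) (constructibleTopology U) _ h _ hV

/-- The topological part: the set of points of `U` which are `E`-equivalent to a point of `V` is
open. -/
theorem isOpen_of_generalizing (p₁ p₂ : Y → U) (hp₁ : Continuous p₁)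
    (hp₁' : ∀ W : Set U, IsOpen W → IsCompact W → IsCompact (p₁ ⁻¹' W))
    (hgen : GeneralizingMap p₁) (hp₂ : Continuous p₂)
    (E : Set Y) (hE : IsOpen E) (V : Set U) (hV' : StableUnderGeneralization V)
    (hV : IsClosed[constructibleTopology Y] (p₂ ⁻¹' V))
    (h1 : ∀ y, ∃ e, p₁ e = y ∧ p₂ e ∈ V)
    (h2 : ∀ e e', p₁ e = p₁ e' → p₂ e ∈ V → p₂ e' ∈ V → e ∈ E → e' ∈ E) :
    IsOpen {y | ∀ e, p₁ e = y → p₂ e ∈ V → e ∈ E} := by
  rw [← isClosed_compl_iff, ← closure_subset_iff_isClosed]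
  intro y hy hy0
  let S : Set Y := Eᶜ ∩ p₂ ⁻¹' V
  have hS : IsClosed[constructibleTopology Y] S :=
    @IsClosed.inter _ _ _ (constructibleTopology Y) (SpecTop.isClosed_constructible_of_isOpen hE) hV
  have hyS : ∀ W : Set U, IsOpen W → y ∈ W → (p₁ ⁻¹' W ∩ S).Nonempty := by
    intro W hW hyW
    obtain ⟨z, hzW, hz⟩ := mem_closure_iff.1 hy W hW hyW
    simp only [Set.mem_compl_iff, Set.mem_ofPred_eq, not_forall] at hz
    obtain ⟨e, he, heV, heE⟩ := hz
    exact ⟨e, by rwa [Set.mem_preimage, he], heE, heV⟩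
  let κ := {W : Set U // (IsOpen W ∧ IsCompact W) ∧ y ∈ W}
  have key : (⋂ k : Option κ, (match k with | none => S | some W => p₁ ⁻¹' W.1)).Nonempty := by
    apply SpecTop.nonempty_iInter_of_closed
    · rintro (_ | W)
      · exact hS
      · exact SpecTop.isClosed_constructible_of_isOpen_of_isCompact (W.2.1.1.preimage hp₁)
          (hp₁' _ W.2.1.1 W.2.1.2)
    · intro t
      have h3 : ∃ W : Set U, IsOpen W ∧ y ∈ W ∧ ∀ V : κ, some V ∈ t → W ⊆ V.1 := by
        refine ⟨⋂ V ∈ {V : κ | some V ∈ t}, V.1, ?_, ?_, ?_⟩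
        · refine Set.Finite.isOpen_biInter ?_ fun V _ => V.2.1.1
          exact (t.finite_toSet.preimage (Option.some_injective _).injOn)
        · simp only [Set.mem_ofPred_eq, Set.mem_iInter]
          exact fun V _ => V.2.2
        · intro V hV
          exact Set.biInter_subset_of_mem (s := {V : κ | some V ∈ t}) (t := fun V => V.1) hV
      obtain ⟨W, hW, hyW, hWV⟩ := h3
      obtain ⟨e, heW, heS⟩ := hyS W hW hyW
      refine ⟨e, ?_⟩
      simp only [Set.mem_iInter]
      rintro (_ | V) hk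
      · exact heS
      · exact hWV V hk heW
  obtain ⟨e, he⟩ := key
  rw [Set.mem_iInter] at he
  obtain ⟨heE, heV⟩ : e ∈ S := he none
  have hsp : p₁ e ⤳ y := by
    rw [specializes_iff_forall_open]
    intro W hW hyW
    obtain ⟨V, hV, hyV, hVW⟩ :=
      (PrespectralSpace.isTopologicalBasis (X := U)).exists_subset_of_mem_open hyW hW
    exact hVW (he (some ⟨V, hV, hyV⟩))
  -- `p₁ e` generalizes `y`, which is in the set
  obtain ⟨e₁, he₁, he₁V⟩ := h1 y
  have he₁E : e₁ ∈ E := hy0 e₁ he₁ he₁V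
  obtain ⟨e₂, he₂, he₂'⟩ := hgen (show p₁ e ⤳ p₁ e₁ by rwa [he₁])
  have h4 : e₂ ∈ E := he₂.mem_open hE he₁E
  have h5 : p₂ e₂ ∈ V := hV' (he₂.map hp₂) he₁V
  exact heE (h2 e₂ e he₂' h5 heV h4)

end Top

theorem isCompact_preimage_comap {R S : Type u} [CommRing R] [CommRing S] (f : R →+* S)
    (W : Set (PrimeSpectrum R)) (hW : IsOpen W) (hWc : IsCompact W) :
    IsCompact (PrimeSpectrum.comap f ⁻¹' W) := by
  classical
  obtain ⟨s, hs⟩ := PrimeSpectrum.isCompact_isOpen_iff.1 ⟨hWc, hW⟩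
  refine (PrimeSpectrum.isCompact_isOpen_iff.2 ⟨s.image f, ?_⟩).1
  rw [← hs, Set.preimage_compl, PrimeSpectrum.preimage_comap_zeroLocus, Finset.coe_image]

section Alg

variable {A : Type u} [CommRing A] {C : Type u} [CommRing C] [Algebra A C]

theorem pt_comp_include {K : Type u} [Field K] [Algebra A K] (g : C ⊗[A] C →ₐ[A] K) :
    (pt (g.comp Algebra.TensorProduct.includeLeft) (g.comp Algebra.TensorProduct.includeRight)).asIdeal =
      RingHom.ker g := by
  have : Algebra.TensorProduct.productMap (g.comp Algebra.TensorProduct.includeLeft)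
      (g.comp Algebra.TensorProduct.includeRight) = g := by
    refine Algebra.TensorProduct.ext' fun a b => ?_
    rw [Algebra.TensorProduct.productMap_apply_tmul]
    change g (a ⊗ₜ[A] 1) * g (1 ⊗ₜ[A] b) = _
    rw [← map_mul, Algebra.TensorProduct.tmul_mul_tmul, mul_one, one_mul]
  ext x
  rw [mem_pt, this]
  exact Iff.rfl

/-- Two points of `Spec (C ⊗ C)` with the same first projection are given by geometric points
`(φ, ψ)`, `(φ, ψ')`. -/
theorem exists_geom (e e' : PrimeSpectrum (C ⊗[A] C))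
    (h : PrimeSpectrum.comap (algebraMap C (C ⊗[A] C)) e =
      PrimeSpectrum.comap (algebraMap C (C ⊗[A] C)) e') :
    ∃ (K : Type u) (_ : Field K) (_ : IsAlgClosed K) (_ : Algebra A K) (φ ψ ψ' : C →ₐ[A] K),
      pt φ ψ = e ∧ pt φ ψ' = e' := by
  obtain ⟨x, hx, hx'⟩ := exists_prime_tensorProduct e e' h
  let K := AlgebraicClosure x.asIdeal.ResidueField
  let j : (C ⊗[A] C) ⊗[C] (C ⊗[A] C) →ₐ[A] K := IsScalarTower.toAlgHom A _ K
  have hj : ∀ y, j y = 0 ↔ y ∈ x.asIdeal := by
    intro y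
    change algebraMap _ K y = 0 ↔ _
    rw [IsScalarTower.algebraMap_apply _ x.asIdeal.ResidueField K,
      map_eq_zero_iff _ (algebraMap x.asIdeal.ResidueField K).injective,
      Ideal.algebraMap_residueField_eq_zero]
  let g : C ⊗[A] C →ₐ[A] K := j.comp Algebra.TensorProduct.includeLeft
  let g' : C ⊗[A] C →ₐ[A] K := j.comp
    ((Algebra.TensorProduct.includeRight : C ⊗[A] C →ₐ[C] (C ⊗[A] C) ⊗[C] (C ⊗[A] C)).restrictScalars A)
  refine ⟨K, inferInstance, inferInstance, inferInstance,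
    g.comp Algebra.TensorProduct.includeLeft, g.comp Algebra.TensorProduct.includeRight,
    g'.comp Algebra.TensorProduct.includeRight, ?_, ?_⟩
  · ext y
    rw [pt_comp_include, RingHom.mem_ker, ← hx]
    exact hj _
  · have h1 : g.comp Algebra.TensorProduct.includeLeft = g'.comp Algebra.TensorProduct.includeLeft := by
      ext c
      change j ((c ⊗ₜ[A] (1 : C)) ⊗ₜ[C] (1 : C ⊗[A] C)) = j ((1 : C ⊗[A] C) ⊗ₜ[C] (c ⊗ₜ[A] (1 : C)))
      congr 1
      have : (c ⊗ₜ[A] (1 : C)) = c • (1 : C ⊗[A] C) := by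
        rw [Algebra.TensorProduct.one_def, TensorProduct.smul_tmul', smul_eq_mul, mul_one]
      rw [this, TensorProduct.smul_tmul]
    rw [h1]
    ext y
    rw [pt_comp_include, RingHom.mem_ker, ← hx']
    exact hj _

theorem comap_left_pt {K : Type u} [Field K] [Algebra A K] (φ ψ : C →ₐ[A] K) :
    (PrimeSpectrum.comap (algebraMap C (C ⊗[A] C)) (pt φ ψ)).asIdeal = RingHom.ker φ := by
  ext c
  change Algebra.TensorProduct.productMap φ ψ (c ⊗ₜ[A] 1) = 0 ↔ _
  rw [Algebra.TensorProduct.productMap_apply_tmul, map_one, mul_one]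
  exact Iff.rfl

theorem comap_right_pt {K : Type u} [Field K] [Algebra A K] (φ ψ : C →ₐ[A] K) :
    (PrimeSpectrum.comap (Algebra.TensorProduct.includeRight : C →ₐ[A] C ⊗[A] C).toRingHom
      (pt φ ψ)).asIdeal = RingHom.ker ψ := by
  ext c
  change Algebra.TensorProduct.productMap φ ψ (1 ⊗ₜ[A] c) = 0 ↔ _
  rw [Algebra.TensorProduct.productMap_apply_tmul, map_one, one_mul]
  exact Iff.rfl

/-- The set `E` of points of `Spec (C ⊗_A C)` defines an equivalence relation on geometric points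
(reflexivity is not needed). -/
structure IsEquivRel (E : Set (PrimeSpectrum (C ⊗[A] C))) : Prop where
  symm : ∀ (K : Type u) [Field K] [IsAlgClosed K] [Algebra A K] (φ ψ : C →ₐ[A] K),
    pt φ ψ ∈ E → pt ψ φ ∈ E
  trans : ∀ (K : Type u) [Field K] [IsAlgClosed K] [Algebra A K] (φ ψ χ : C →ₐ[A] K),
    pt φ ψ ∈ E → pt ψ χ ∈ E → pt φ χ ∈ E

/-- The main theorem in algebraic form. -/
theorem exists_open [Algebra.Etale A C] (I : Ideal A)
    (hconn : ∀ (K : Type u) [Field K] [IsAlgClosed K] [Algebra A K],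
      IsPreconnected (PrimeSpectrum.zeroLocus
        (I.map (algebraMap A (integralClosure A K)) : Set (integralClosure A K))))
    (hI : ∀ m : Ideal A, m.IsMaximal → I ≤ m)
    (hsurj : ∀ p : PrimeSpectrum A, I ≤ p.asIdeal →
      ∃ P : PrimeSpectrum C, PrimeSpectrum.comap (algebraMap A C) P = p)
    (E : Set (PrimeSpectrum (C ⊗[A] C))) (hE : IsOpen E) (hrel : IsEquivRel E)
    (hZ : ∀ e : PrimeSpectrum (C ⊗[A] C),
      I ≤ (PrimeSpectrum.comap (algebraMap A (C ⊗[A] C)) e).asIdeal → e ∈ E) :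
    ∃ U₀ : Set (PrimeSpectrum C), IsOpen U₀ ∧
      (∀ p : PrimeSpectrum A, ∃ P ∈ U₀, PrimeSpectrum.comap (algebraMap A C) P = p) ∧
      (∀ P : PrimeSpectrum C, I ≤ (PrimeSpectrum.comap (algebraMap A C) P).asIdeal → P ∈ U₀) ∧
      ∀ e, PrimeSpectrum.comap (algebraMap C (C ⊗[A] C)) e ∈ U₀ →
        PrimeSpectrum.comap (Algebra.TensorProduct.includeRight : C →ₐ[A] C ⊗[A] C).toRingHom e ∈ U₀ →
        e ∈ E := by
  -- the points specializing into `V(I)`
  let V : Set (PrimeSpectrum C) :=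
    {y | (closure {y} ∩ PrimeSpectrum.zeroLocus (I.map (algebraMap A C) : Set C)).Nonempty}
  have hVmem : ∀ y : PrimeSpectrum C, y ∈ V ↔
      ∃ u : PrimeSpectrum C, y.asIdeal ≤ u.asIdeal ∧ I.map (algebraMap A C) ≤ u.asIdeal := by
    intro y
    constructor
    · rintro ⟨u, hu, huI⟩
      exact ⟨u, (PrimeSpectrum.le_iff_mem_closure y u).2 hu, huI⟩
    · rintro ⟨u, hu, huI⟩
      exact ⟨u, (PrimeSpectrum.le_iff_mem_closure y u).1 hu, huI⟩
  let p₁ : PrimeSpectrum (C ⊗[A] C) → PrimeSpectrum C := PrimeSpectrum.comap (algebraMap C (C ⊗[A] C))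
  let p₂ : PrimeSpectrum (C ⊗[A] C) → PrimeSpectrum C :=
    PrimeSpectrum.comap (Algebra.TensorProduct.includeRight : C →ₐ[A] C ⊗[A] C).toRingHom
  -- every point of `Spec A` is the image of a point of `V`
  have hVsurj : ∀ p : PrimeSpectrum A, ∃ v ∈ V, PrimeSpectrum.comap (algebraMap A C) v = p := by
    intro p
    obtain ⟨m, hm, hpm⟩ := Ideal.exists_le_maximal p.asIdeal p.2.ne_top
    obtain ⟨u, hu⟩ := hsurj ⟨m, hm.isPrime⟩ (hI m hm)
    have hgd : GeneralizingMap (PrimeSpectrum.comap (algebraMap A C)) :=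
      Algebra.HasGoingDown.iff_generalizingMap_primeSpectrumComap.1 inferInstance
    obtain ⟨v, hv, hvp⟩ := hgd (show p ⤳ PrimeSpectrum.comap (algebraMap A C) u from by
      rw [hu]
      exact (PrimeSpectrum.le_iff_specializes _ _).1 hpm)
    refine ⟨v, (hVmem v).2 ⟨u, (PrimeSpectrum.le_iff_specializes _ _).2 hv, ?_⟩, hvp⟩
    refine Ideal.map_le_iff_le_comap.2 ?_
    change I ≤ (PrimeSpectrum.comap (algebraMap A C) u).asIdeal
    rw [hu]
    exact hI m hm
  have h1 : ∀ y, ∃ e, p₁ e = y ∧ p₂ e ∈ V := by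
    intro y
    obtain ⟨v, hv, hvy⟩ := hVsurj (PrimeSpectrum.comap (algebraMap A C) y)
    obtain ⟨e, he, he'⟩ := exists_prime_tensorProduct y v hvy.symm
    exact ⟨e, he, by rwa [← he'] at hv⟩
  have h2 : ∀ e e', p₁ e = p₁ e' → p₂ e ∈ V → p₂ e' ∈ V → e ∈ E → e' ∈ E := by
    intro e e' h he he' heE
    obtain ⟨K, _, _, _, φ, ψ, ψ', rfl, rfl⟩ := exists_geom e e' h
    have key : pt ψ ψ' ∈ E := by
      refine pt_mem I (hconn K) hsurj E hE hZ (hrel.trans K) ψ ψ' ?_ ?_
      · have := (hVmem _).1 he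
        rwa [comap_right_pt] at this
      · have := (hVmem _).1 he'
        rwa [comap_right_pt] at this
    exact hrel.trans K _ _ _ heE key
  have hVU : ∀ v ∈ V, ∀ e, p₁ e = v → p₂ e ∈ V → e ∈ E := by
    rintro v hv e rfl he
    obtain ⟨K, _, _, _, φ, ψ, -, rfl, -⟩ := exists_geom e e rfl
    refine pt_mem I (hconn K) hsurj E hE hZ (hrel.trans K) φ ψ ?_ ?_
    · have := (hVmem _).1 hv
      rwa [comap_left_pt] at this
    · have := (hVmem _).1 he
      rwa [comap_right_pt] at this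
  refine ⟨{y | ∀ e, p₁ e = y → p₂ e ∈ V → e ∈ E}, ?_, ?_, ?_, ?_⟩
  · refine isOpen_of_generalizing p₁ p₂ (PrimeSpectrum.continuous_comap _) ?_ ?_
      (PrimeSpectrum.continuous_comap _) E hE V ?_ ?_ h1 h2
    · intro W hW hWc
      exact isCompact_preimage_comap _ W hW hWc
    · exact Algebra.HasGoingDown.iff_generalizingMap_primeSpectrumComap.1 inferInstance
    · rintro x y hxy ⟨z, hz, hzI⟩
      exact ⟨z, hxy.closure_subset hz, hzI⟩
    · refine isClosed_constructible_preimage p₂ (PrimeSpectrum.continuous_comap _) (fun W hW hWc => ?_) ?_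
      · exact isCompact_preimage_comap _ W hW hWc
      · exact SpecTop.isClosed_constructible_generalizations
          (PrimeSpectrum.isClosed_zeroLocus _).isCompact
  · intro p
    obtain ⟨v, hv, hvp⟩ := hVsurj p
    exact ⟨v, hVU v hv, hvp⟩
  · intro P hP
    refine hVU P ((hVmem P).2 ⟨P, le_rfl, Ideal.map_le_iff_le_comap.2 hP⟩)
  · intro e he he'
    obtain ⟨e', he₁, he₂⟩ := h1 (p₁ e)
    obtain ⟨K, _, _, _, φ, ψ, ψ', rfl, rfl⟩ := exists_geom e e' he₁.symm
    have h3 : pt φ ψ' ∈ E := he _ he₁ he₂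
    have h4 : pt ψ ψ' ∈ E := by
      refine he' _ ?_ ?_
      · apply PrimeSpectrum.ext
        rw [comap_left_pt, comap_right_pt]
      · have : p₂ (pt ψ ψ') = p₂ (pt φ ψ') := by
          apply PrimeSpectrum.ext
          rw [comap_right_pt, comap_right_pt]
        rwa [this]
    exact hrel.trans K _ _ _ h3 (hrel.symm K _ _ h4)

end Alg

end Groth.Agent.EtpbcA.OpenEquiv
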