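import Mathlib.RingTheory.Unramified.LocalStructure
import Mathlib.RingTheory.Etale.StandardEtale
import Mathlib.FieldTheory.IsAlgClosed.Basic
import Mathlib.RingTheory.Spectrum.Prime.RingHom
import Mathlib.RingTheory.Spectrum.Prime.TensorProduct
import Mathlib.RingTheory.Flat.FaithfullyFlat.Basic
import Mathlib.RingTheory.Ideal.GoingUp

/-!
# Etale algebras over a ring integrally closed in an algebraically closed field

`K` is an algebraically closed field and `A → K` an injective ring map such that every element of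
`K` which is integral over `A` comes from `A`.  Then every etale `A`-algebra is Zariski-locally
split: through every prime `P` passes a section defined over `A[1/s]`, `s ∉ P`.
-/

set_option autoImplicit false

open Polynomial TensorProduct

namespace Groth.Agent.EtpbcA.OpenEquivAlg

universe u v w

section AIC

variable {A : Type u} {K : Type v} [CommRing A] [Field K] [Algebra A K] [IsAlgClosed K]

/-- Monic polynomials over `A` split into linear factors. -/
theorem exists_prod_X_sub_C (hA : Function.Injective (algebraMap A K))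
    (hint : ∀ x : K, IsIntegral A x → ∃ a, algebraMap A K a = x) (f : A[X]) (hf : f.Monic) :
    ∃ s : Multiset A, f = (s.map (fun a => X - C a)).prod := by
  have h1 : (f.map (algebraMap A K)).Splits := IsAlgClosed.splits _
  have hroots : ∀ x ∈ (f.map (algebraMap A K)).roots, ∃ a : A, algebraMap A K a = x := by
    intro x hx
    refine hint x ⟨f, hf, ?_⟩
    have := (mem_roots'.1 hx).2
    rwa [IsRoot.def, eval_map] at this
  obtain ⟨s, hs⟩ : ∃ s : Multiset A, s.map (algebraMap A K) = (f.map (algebraMap A K)).roots := by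
    generalize (f.map (algebraMap A K)).roots = r at hroots
    induction r using Multiset.induction_on with
    | empty => exact ⟨0, rfl⟩
    | cons x r ih =>
      obtain ⟨s, hs⟩ := ih (fun y hy => hroots y (Multiset.mem_cons_of_mem hy))
      obtain ⟨a, ha⟩ := hroots x (Multiset.mem_cons_self x r)
      exact ⟨a ::ₘ s, by rw [Multiset.map_cons, hs, ha]⟩
  refine ⟨s, Polynomial.map_injective _ hA ?_⟩
  rw [Polynomial.map_multiset_prod, Multiset.map_map]
  have h2 := h1.eq_prod_roots
  rw [(hf.map _).leadingCoeff, C_1, one_mul, ← hs, Multiset.map_map] at h2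
  rw [h2]
  congr 1
  refine Multiset.map_congr rfl fun a _ => ?_
  simp

variable {D : Type w} [CommRing D] [Algebra A D] [Algebra.Etale A D]

/-- Local structure at a prime `P`: an element `g ∉ P`, a standard etale presentation of `D_g`. -/
theorem exists_presentation (P : Ideal D) [P.IsPrime] :
    ∃ g : D, g ∉ P ∧ Nonempty (StandardEtalePresentation A (Localization.Away g)) := by
  obtain ⟨g, hg, hstd⟩ := Algebra.IsEtaleAt.exists_isStandardEtale (R := A) P
  exact ⟨g, hg, hstd.nonempty_standardEtalePresentation⟩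

omit [Algebra.Etale A D] in
theorem notMem_of_sub_mem {g : D} {P : Ideal D} [P.IsPrime] (hg : g ∉ P)
    (pr : StandardEtalePresentation A (Localization.Away g)) (a : A)
    (ha : pr.x - algebraMap A _ a ∈ P.map (algebraMap D (Localization.Away g))) :
    algebraMap A D (pr.g.eval a) ∉ P := by
  have hdisj : Disjoint (Submonoid.powers g : Set D) (P : Set D) :=
    (Ideal.disjoint_powers_iff_notMem_of_isPrime _).mpr hg
  have hprime : (P.map (algebraMap D (Localization.Away g))).IsPrime :=
    IsLocalization.isPrime_of_isPrime_disjoint (.powers g) _ _ ‹_› hdisj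
  intro hmem
  have h1 : algebraMap A (Localization.Away g) (pr.g.eval a) ∈
      P.map (algebraMap D (Localization.Away g)) := by
    rw [IsScalarTower.algebraMap_apply A D (Localization.Away g)]
    exact Ideal.mem_map_of_mem _ hmem
  have h2 : aeval pr.x pr.g - algebraMap A (Localization.Away g) (pr.g.eval a) ∈
      P.map (algebraMap D (Localization.Away g)) := by
    have : pr.x - algebraMap A _ a ∣
        aeval pr.x pr.g - algebraMap A (Localization.Away g) (pr.g.eval a) := by
      have := Polynomial.sub_dvd_eval_sub pr.x (algebraMap A _ a)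
        (pr.g.map (algebraMap A (Localization.Away g)))
      rwa [eval_map, eval_map, ← aeval_def, eval₂_at_apply] at this
    exact Ideal.mem_of_dvd _ this ha
  have h3 : aeval pr.x pr.g ∈ P.map (algebraMap D (Localization.Away g)) := by
    have := Ideal.add_mem _ h2 h1
    simpa using this
  exact hprime.ne_top (Ideal.eq_top_of_isUnit_mem _ h3 pr.hasMap.2)

omit [IsAlgClosed K] [Algebra.Etale A D] in
theorem exists_pow_mul_eq {g : D} (pr : StandardEtalePresentation A (Localization.Away g)) (a : A)
    (χ : Localization.Away g →ₐ[A] K) (hχ : χ pr.x = algebraMap A K a) (d : Localization.Away g) :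
    ∃ (n : ℕ) (b : A), algebraMap A K (pr.g.eval a) ^ n * χ d = algebraMap A K b := by
  obtain ⟨p, n, h⟩ := pr.exists_mul_aeval_x_g_pow_eq_aeval_x d
  refine ⟨n, p.eval a, ?_⟩
  have := congrArg χ h
  rw [map_mul, map_pow, ← aeval_algHom_apply, ← aeval_algHom_apply, hχ,
    aeval_algebraMap_apply, aeval_algebraMap_apply] at this
  rw [mul_comm]
  simpa using this

/-- Through every prime `P` of the etale `A`-algebra `D` there is a section over a Zariski
neighbourhood of the image of `P`. -/
theorem exists_section (hA : Function.Injective (algebraMap A K))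
    (hint : ∀ x : K, IsIntegral A x → ∃ a, algebraMap A K a = x) (P : Ideal D) [P.IsPrime] :
    ∃ (χ : D →ₐ[A] K) (s : A), algebraMap A D s ∉ P ∧
      ∀ d, ∃ (n : ℕ) (b : A), algebraMap A K s ^ n * χ d = algebraMap A K b := by
  obtain ⟨g, hg, ⟨pr⟩⟩ := exists_presentation (A := A) P
  have hdisj : Disjoint (Submonoid.powers g : Set D) (P : Set D) :=
    (Ideal.disjoint_powers_iff_notMem_of_isPrime _).mpr hg
  have hprime : (P.map (algebraMap D (Localization.Away g))).IsPrime :=
    IsLocalization.isPrime_of_isPrime_disjoint (.powers g) _ _ ‹_› hdisj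
  obtain ⟨s, hs⟩ := exists_prod_X_sub_C hA hint pr.f pr.monic_f
  have h0 : (s.map (fun a => pr.x - algebraMap A (Localization.Away g) a)).prod = 0 := by
    have := pr.hasMap.1
    rw [hs, map_multiset_prod, Multiset.map_map] at this
    simpa using this
  have h1 : ∃ a ∈ s, pr.x - algebraMap A (Localization.Away g) a ∈
      P.map (algebraMap D (Localization.Away g)) := by
    have h2 : (s.map (fun a => pr.x - algebraMap A (Localization.Away g) a)).prod ∈
        P.map (algebraMap D (Localization.Away g)) := by rw [h0]; exact Ideal.zero_mem _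
    obtain ⟨y, hy, hyP⟩ := (Ideal.IsPrime.multiset_prod_mem_iff_exists_mem hprime _).1 h2
    obtain ⟨a, ha, rfl⟩ := Multiset.mem_map.1 hy
    exact ⟨a, ha, hyP⟩
  obtain ⟨a, has, ha⟩ := h1
  have hnot := notMem_of_sub_mem hg pr a ha
  have hne : pr.g.eval a ≠ 0 := by
    intro h
    rw [h, map_zero] at hnot
    exact hnot (Ideal.zero_mem _)
  have hmap : pr.HasMap (algebraMap A K a) := by
    refine ⟨?_, ?_⟩
    · rw [aeval_algebraMap_apply]
      have : pr.f.eval a = 0 := by
        rw [hs, eval_multiset_prod, Multiset.map_map]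
        refine Multiset.prod_eq_zero (Multiset.mem_map.2 ⟨a, has, by simp⟩)
      simp [this]
    · rw [aeval_algebraMap_apply]
      refine IsUnit.mk0 _ ?_
      simpa using fun h => hne (hA (by simpa using h))
  let χ' : Localization.Away g →ₐ[A] K := (pr.lift _ hmap).comp pr.equivRing.toAlgHom
  have hχ' : χ' pr.x = algebraMap A K a := by
    simp [χ']
  refine ⟨χ'.comp (IsScalarTower.toAlgHom A D (Localization.Away g)), pr.g.eval a, hnot, fun d => ?_⟩
  exact exists_pow_mul_eq pr a χ' hχ' _

omit [IsAlgClosed K] in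
/-- A section `χ` of `D` over the generic point which specializes to the prime `P` is defined over
`A[1/s]` for some `s ∉ P`. -/
theorem exists_of_ker_le (hint : ∀ x : K, IsIntegral A x → ∃ a, algebraMap A K a = x)
    (P : Ideal D) [P.IsPrime] (χ : D →ₐ[A] K) (hle : RingHom.ker χ ≤ P) :
    ∃ s : A, algebraMap A D s ∉ P ∧
      ∀ d, ∃ (n : ℕ) (b : A), algebraMap A K s ^ n * χ d = algebraMap A K b := by
  obtain ⟨g, hg, ⟨pr⟩⟩ := exists_presentation (A := A) P
  have hgχ : ∀ y : Submonoid.powers g, IsUnit (χ y) := by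
    rintro ⟨_, n, rfl⟩
    simp only [map_pow]
    refine (IsUnit.mk0 _ fun h => hg (hle ?_)).pow n
    exact h
  let χ' : Localization.Away g →ₐ[A] K := IsLocalization.liftAlgHom (M := Submonoid.powers g) hgχ
  have hχ' : ∀ d, χ' (algebraMap D _ d) = χ d := fun d => by
    simp [χ', IsLocalization.liftAlgHom_apply]
  have hroot : IsIntegral A (χ' pr.x) := by
    refine ⟨pr.f, pr.monic_f, ?_⟩
    rw [← aeval_def, aeval_algHom_apply, pr.hasMap.1, map_zero]
  obtain ⟨a, ha⟩ := hint _ hroot
  have hmem : pr.x - algebraMap A (Localization.Away g) a ∈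
      P.map (algebraMap D (Localization.Away g)) := by
    obtain ⟨⟨d, y⟩, hdy⟩ := IsLocalization.surj (Submonoid.powers g)
      (pr.x - algebraMap A (Localization.Away g) a)
    have h1 : χ d = 0 := by
      rw [← hχ', ← hdy, map_mul, map_sub, AlgHom.commutes, ha, sub_self, zero_mul]
    have h2 : algebraMap D (Localization.Away g) d ∈ P.map (algebraMap D (Localization.Away g)) :=
      Ideal.mem_map_of_mem _ (hle h1)
    rw [← hdy] at h2
    exact (Ideal.mul_unit_mem_iff_mem _ (IsLocalization.map_units _ y)).1 h2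
  have hnot := notMem_of_sub_mem hg pr a hmem
  refine ⟨pr.g.eval a, hnot, fun d => ?_⟩
  rw [← hχ']
  exact exists_pow_mul_eq pr a χ' ha.symm _

end AIC

/-- Two points with the same image lift to the spectrum of the tensor product. -/
theorem exists_prime_tensorProduct {R S T : Type u} [CommRing R] [CommRing S] [CommRing T] [Algebra R S]
    [Algebra R T] (q : PrimeSpectrum S) (P : PrimeSpectrum T)
    (h : PrimeSpectrum.comap (algebraMap R S) q = PrimeSpectrum.comap (algebraMap R T) P) :
    ∃ x : PrimeSpectrum (S ⊗[R] T),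
      PrimeSpectrum.comap (algebraMap S (S ⊗[R] T)) x = q ∧
      PrimeSpectrum.comap (Algebra.TensorProduct.includeRight : T →ₐ[R] S ⊗[R] T).toRingHom x = P := by
  let p := PrimeSpectrum.comap (algebraMap R S) q
  let k := p.asIdeal.ResidueField
  let f : k →+* q.asIdeal.ResidueField := Ideal.ResidueField.map _ _ (algebraMap R S) rfl
  let g : k →+* P.asIdeal.ResidueField := Ideal.ResidueField.map _ _ (algebraMap R T)
    (congrArg PrimeSpectrum.asIdeal h)
  let _ := f.toAlgebra
  let _ := g.toAlgebra
  have hnt : Nontrivial (q.asIdeal.ResidueField ⊗[k] P.asIdeal.ResidueField) := inferInstance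
  obtain ⟨m, hm⟩ := Ideal.exists_maximal (q.asIdeal.ResidueField ⊗[k] P.asIdeal.ResidueField)
  let a : S →+* (q.asIdeal.ResidueField ⊗[k] P.asIdeal.ResidueField) ⧸ m :=
    (Ideal.Quotient.mk m).comp ((algebraMap q.asIdeal.ResidueField _).comp (algebraMap S _))
  let b : T →+* (q.asIdeal.ResidueField ⊗[k] P.asIdeal.ResidueField) ⧸ m :=
    (Ideal.Quotient.mk m).comp ((Algebra.TensorProduct.includeRight (R := k) :
      P.asIdeal.ResidueField →ₐ[k] _).toRingHom.comp (algebraMap T _))
  have hab : a.comp (algebraMap R S) = b.comp (algebraMap R T) := by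
    ext r
    have h1 : algebraMap S q.asIdeal.ResidueField (algebraMap R S r) =
        algebraMap k q.asIdeal.ResidueField (algebraMap R k r) := by
      exact (Ideal.ResidueField.map_algebraMap _ _ _ rfl _).symm
    have h2 : algebraMap T P.asIdeal.ResidueField (algebraMap R T r) =
        algebraMap k P.asIdeal.ResidueField (algebraMap R k r) := by
      exact (Ideal.ResidueField.map_algebraMap _ _ _ (congrArg PrimeSpectrum.asIdeal h) _).symm
    simp only [a, b, RingHom.comp_apply, AlgHom.toRingHom_eq_coe, RingHom.coe_coe, h1, h2]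
    rw [AlgHom.commutes, ← IsScalarTower.algebraMap_apply]
  let _ : Algebra R ((q.asIdeal.ResidueField ⊗[k] P.asIdeal.ResidueField) ⧸ m) :=
    (a.comp (algebraMap R S)).toAlgebra
  let a' : S →ₐ[R] (q.asIdeal.ResidueField ⊗[k] P.asIdeal.ResidueField) ⧸ m :=
    { a with commutes' := fun r => rfl }
  let b' : T →ₐ[R] (q.asIdeal.ResidueField ⊗[k] P.asIdeal.ResidueField) ⧸ m :=
    { b with commutes' := fun r => (RingHom.congr_fun hab r).symm }
  have : m.IsPrime := hm.isPrime
  let c : S ⊗[R] T →ₐ[R] (q.asIdeal.ResidueField ⊗[k] P.asIdeal.ResidueField) ⧸ m :=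
    Algebra.TensorProduct.productMap a' b'
  let _ := Ideal.Quotient.field m
  refine ⟨PrimeSpectrum.comap c.toRingHom ⊥, ?_, ?_⟩
  · rw [← PrimeSpectrum.comap_comp_apply]
    have : c.toRingHom.comp (algebraMap S (S ⊗[R] T)) = a := by
      ext s
      simp [c, a', Algebra.TensorProduct.algebraMap_apply]
    rw [this]
    ext s
    have hinj : Function.Injective ((Ideal.Quotient.mk m).comp (algebraMap q.asIdeal.ResidueField
      (q.asIdeal.ResidueField ⊗[k] P.asIdeal.ResidueField))) := RingHom.injective _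
    simp only [PrimeSpectrum.comap_asIdeal, Ideal.mem_comap, PrimeSpectrum.asIdeal_bot,
      Ideal.mem_bot]
    change ((Ideal.Quotient.mk m).comp (algebraMap q.asIdeal.ResidueField
      (q.asIdeal.ResidueField ⊗[k] P.asIdeal.ResidueField))) (algebraMap S _ s) = 0 ↔ _
    rw [map_eq_zero_iff _ hinj, Ideal.algebraMap_residueField_eq_zero]
  · rw [← PrimeSpectrum.comap_comp_apply]
    have : c.toRingHom.comp (Algebra.TensorProduct.includeRight : T →ₐ[R] S ⊗[R] T).toRingHom = b := by
      ext s
      simp [c, b']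
    rw [this]
    ext s
    have hinj : Function.Injective ((Ideal.Quotient.mk m).comp
      (Algebra.TensorProduct.includeRight (R := k) (A := q.asIdeal.ResidueField) :
      P.asIdeal.ResidueField →ₐ[k] _).toRingHom) := RingHom.injective _
    simp only [PrimeSpectrum.comap_asIdeal, Ideal.mem_comap, PrimeSpectrum.asIdeal_bot,
      Ideal.mem_bot]
    change ((Ideal.Quotient.mk m).comp
      (Algebra.TensorProduct.includeRight (R := k) (A := q.asIdeal.ResidueField) :
      P.asIdeal.ResidueField →ₐ[k] _).toRingHom) (algebraMap T _ s) = 0 ↔ _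
    rw [map_eq_zero_iff _ hinj, Ideal.algebraMap_residueField_eq_zero]

section Split

variable {A : Type u} [CommRing A] {C : Type u} [CommRing C] [Algebra A C] [Algebra.Etale A C]
  {K : Type u} [Field K] [Algebra A K] [IsAlgClosed K]

/-- The set of primes `q` of the integral closure `A'` of `A` in `K` such that `φ` is defined over
a neighbourhood `D(s)` of `q`. -/
def dom (φ : C →ₐ[A] K) : Set (PrimeSpectrum (integralClosure A K)) :=
  {q | ∃ s : integralClosure A K, s ∉ q.asIdeal ∧
    ∀ c, ∃ (n : ℕ) (b : integralClosure A K), (s : K) ^ n * φ c = b}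

omit [Algebra.Etale A C] [IsAlgClosed K] in
theorem isOpen_dom (φ : C →ₐ[A] K) : IsOpen (dom φ) := by
  have : dom φ = ⋃ s ∈ {s : integralClosure A K |
      ∀ c, ∃ (n : ℕ) (b : integralClosure A K), (s : K) ^ n * φ c = b},
      (PrimeSpectrum.basicOpen s : Set (PrimeSpectrum (integralClosure A K))) := by
    ext q
    simp only [dom, Set.mem_ofPred_eq, Set.mem_iUnion, SetLike.mem_coe,
      PrimeSpectrum.mem_basicOpen, exists_prop]
    exact exists_congr fun s => and_comm
  rw [this]
  exact isOpen_biUnion fun s _ => (PrimeSpectrum.basicOpen s).2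

omit [IsAlgClosed K] in
theorem integralClosure_hint (x : K) (hx : IsIntegral (integralClosure A K) x) :
    ∃ a : integralClosure A K, algebraMap (integralClosure A K) K a = x :=
  ⟨⟨x, isIntegral_trans x hx⟩, rfl⟩

/-- Points of `Spec A'` over the image of `Spec C` lie in the domain of some section. -/
theorem exists_mem_dom (q : PrimeSpectrum (integralClosure A K)) (P : PrimeSpectrum C)
    (h : PrimeSpectrum.comap (algebraMap A _) q = PrimeSpectrum.comap (algebraMap A C) P) :
    ∃ φ : C →ₐ[A] K, q ∈ dom φ := by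
  obtain ⟨x, hx, -⟩ := exists_prime_tensorProduct q P h
  obtain ⟨χ, s, hs, hχ⟩ := exists_section (A := integralClosure A K) (K := K)
    (FaithfulSMul.algebraMap_injective _ _) integralClosure_hint x.asIdeal
  refine ⟨(χ.restrictScalars A).comp Algebra.TensorProduct.includeRight, s, ?_, fun c => ?_⟩
  · rw [← hx]
    exact hs
  · obtain ⟨n, b, h⟩ := hχ (Algebra.TensorProduct.includeRight c)
    exact ⟨n, b, h⟩

omit [IsAlgClosed K] in
/-- If the geometric point `φ` specializes to `P`, then `φ` is defined at some point of `Spec A'`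
over the image of `P`. -/
theorem exists_mem_dom_of_ker_le (φ : C →ₐ[A] K) (P : PrimeSpectrum C)
    (hP : RingHom.ker φ ≤ P.asIdeal) :
    ∃ q ∈ dom φ, PrimeSpectrum.comap (algebraMap A _) q = PrimeSpectrum.comap (algebraMap A C) P := by
  let χ : (integralClosure A K) ⊗[A] C →ₐ[integralClosure A K] K :=
    Algebra.TensorProduct.lift (Algebra.ofId _ _) φ (fun _ _ => Commute.all _ _)
  have hχ : ∀ c, χ (Algebra.TensorProduct.includeRight c) = φ c := fun c => by simp [χ]
  let _ : Algebra C ((integralClosure A K) ⊗[A] C) := Algebra.TensorProduct.rightAlgebra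
  have hint : Algebra.IsIntegral C ((integralClosure A K) ⊗[A] C) := by
    refine ⟨fun x => ?_⟩
    induction x using TensorProduct.induction_on with
    | zero => exact isIntegral_zero
    | tmul a c =>
      have h1 : IsIntegral A (a ⊗ₜ[A] (1 : C)) :=
        (integralClosure.isIntegral a).map
          (Algebra.TensorProduct.includeLeft : integralClosure A K →ₐ[A] integralClosure A K ⊗[A] C)
      have h2 : (a ⊗ₜ[A] c : (integralClosure A K) ⊗[A] C) =
          (a ⊗ₜ[A] (1 : C)) * algebraMap C ((integralClosure A K) ⊗[A] C) c := by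
        rw [Algebra.TensorProduct.right_algebraMap_apply, Algebra.TensorProduct.tmul_mul_tmul,
          mul_one, one_mul]
      rw [h2]
      exact h1.tower_top.mul isIntegral_algebraMap
    | add x y hx hy => exact hx.add hy
  have hker : (RingHom.ker χ).comap (algebraMap C ((integralClosure A K) ⊗[A] C)) ≤ P.asIdeal := by
    intro c hc
    refine hP ?_
    have : χ (Algebra.TensorProduct.includeRight c) = 0 := hc
    rwa [hχ] at this
  obtain ⟨Q, hQ, hQp, hQP⟩ := Ideal.exists_ideal_over_prime_of_isIntegral P.asIdeal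
    (RingHom.ker χ) hker
  obtain ⟨s, hs, hχs⟩ := exists_of_ker_le (A := integralClosure A K) (K := K)
    integralClosure_hint Q χ hQ
  refine ⟨PrimeSpectrum.comap (algebraMap _ _) ⟨Q, hQp⟩, ⟨s, hs, fun c => ?_⟩, ?_⟩
  · obtain ⟨n, b, h⟩ := hχs (Algebra.TensorProduct.includeRight c)
    rw [hχ] at h
    exact ⟨n, b, h⟩
  · rw [← PrimeSpectrum.comap_comp_apply, ← IsScalarTower.algebraMap_eq]
    ext a
    have h1 : a ∈ (PrimeSpectrum.comap (algebraMap A C) P).asIdeal ↔ algebraMap A C a ∈ P.asIdeal :=
      Iff.rfl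
    rw [h1, ← hQP, Ideal.mem_comap]
    change algebraMap A _ a ∈ Q ↔ _
    rw [Algebra.TensorProduct.right_algebraMap_apply, Algebra.TensorProduct.algebraMap_apply,
      Algebra.algebraMap_eq_smul_one, TensorProduct.smul_tmul, Algebra.algebraMap_eq_smul_one]

/-- The point of `Spec (C ⊗ C)` given by a pair of geometric points. -/
def pt (φ ψ : C →ₐ[A] K) : PrimeSpectrum (C ⊗[A] C) :=
  PrimeSpectrum.comap (Algebra.TensorProduct.productMap φ ψ).toRingHom ⊥

omit [Algebra.Etale A C] [IsAlgClosed K] in
theorem mem_pt (φ ψ : C →ₐ[A] K) (x : C ⊗[A] C) :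
    x ∈ (pt φ ψ).asIdeal ↔ Algebra.TensorProduct.productMap φ ψ x = 0 := Iff.rfl

omit [Algebra.Etale A C] [IsAlgClosed K] in
/-- If two geometric points `φ, ψ` are defined at the same point `q`, then the point `(φ, ψ)`
specializes to a point over the image of `q`. -/
theorem exists_pt_le (φ ψ : C →ₐ[A] K) (q : PrimeSpectrum (integralClosure A K))
    (hφ : q ∈ dom φ) (hψ : q ∈ dom ψ) :
    ∃ e : PrimeSpectrum (C ⊗[A] C), pt φ ψ ≤ e ∧
      PrimeSpectrum.comap (algebraMap A _) e = PrimeSpectrum.comap (algebraMap A _) q := by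
  obtain ⟨s, hs, hφs⟩ := hφ
  obtain ⟨t, ht, hψt⟩ := hψ
  set θ := Algebra.TensorProduct.productMap φ ψ with hθ
  have key : ∀ x, ∃ (n : ℕ) (b : integralClosure A K), ((s * t : integralClosure A K) : K) ^ n * θ x = b := by
    intro x
    induction x using TensorProduct.induction_on with
    | zero => exact ⟨0, 0, by simp⟩
    | tmul c d =>
      obtain ⟨n, b, hb⟩ := hφs c
      obtain ⟨m, b', hb'⟩ := hψt d
      refine ⟨n + m, s ^ m * t ^ n * b * b', ?_⟩
      rw [hθ, Algebra.TensorProduct.productMap_apply_tmul]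
      push_cast
      rw [← hb, ← hb']
      ring
    | add x y hx hy =>
      obtain ⟨n, b, hb⟩ := hx
      obtain ⟨m, b', hb'⟩ := hy
      refine ⟨n + m, (s * t) ^ m * b + (s * t) ^ n * b', ?_⟩
      rw [map_add]
      push_cast
      push_cast at hb hb'
      rw [← hb, ← hb']
      ring
  have hst : s * t ∉ q.asIdeal := fun h => (q.2.mem_or_mem h).elim hs ht
  let L := Localization.AtPrime q.asIdeal
  let ι : L →ₐ[integralClosure A K] K := IsLocalization.liftAlgHom (M := q.asIdeal.primeCompl)
    (f := Algebra.ofId (integralClosure A K) K) (by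
      rintro ⟨y, hy⟩
      refine IsUnit.mk0 _ fun h => hy ?_
      have : y = 0 := (FaithfulSMul.algebraMap_injective (integralClosure A K) K) (by simpa using h)
      rw [this]
      exact Ideal.zero_mem _)
  have hιa : ∀ a : integralClosure A K, ι (algebraMap _ L a) = a := fun a => by
    rw [AlgHom.commutes]
    rfl
  have hne : ∀ y : integralClosure A K, y ∉ q.asIdeal → (y : K) ≠ 0 := by
    intro y hy h
    have : y = 0 := Subtype.ext h
    rw [this] at hy
    exact hy (Ideal.zero_mem _)
  have hι : Function.Injective ι := by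
    rw [injective_iff_map_eq_zero]
    intro x hx
    obtain ⟨⟨a, y⟩, hay⟩ := IsLocalization.surj q.asIdeal.primeCompl x
    have h1 : (a : K) = 0 := by
      rw [← hιa, ← hay, map_mul, hx, zero_mul]
    have h2 : a = 0 := Subtype.ext h1
    rw [h2, map_zero] at hay
    exact (IsLocalization.map_units L y).mul_left_eq_zero.1 hay
  have hrange : ∀ x, θ x ∈ (ι.restrictScalars A).range := by
    intro x
    obtain ⟨n, b, h⟩ := key x
    refine ⟨IsLocalization.mk' L b (⟨s * t, hst⟩ ^ n : q.asIdeal.primeCompl), ?_⟩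
    have h1 := congrArg ι (IsLocalization.mk'_spec L b (⟨s * t, hst⟩ ^ n : q.asIdeal.primeCompl))
    rw [map_mul, hιa, hιa, ← h] at h1
    have h2 : (((⟨s * t, hst⟩ ^ n : q.asIdeal.primeCompl) : integralClosure A K) : K) =
        ((s * t : integralClosure A K) : K) ^ n := by
      simp
    rw [h2, mul_comm] at h1
    exact mul_left_cancel₀ (pow_ne_zero n (hne _ hst)) h1
  let θ' : C ⊗[A] C →ₐ[A] L :=
    ((AlgEquiv.ofInjective (ι.restrictScalars A) hι).symm.toAlgHom).comp
      (θ.codRestrict (ι.restrictScalars A).range hrange)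
  have hθ' : ∀ x, ι (θ' x) = θ x := by
    intro x
    exact congrArg Subtype.val ((AlgEquiv.ofInjective (ι.restrictScalars A) hι).apply_symm_apply
      (θ.codRestrict (ι.restrictScalars A).range hrange x))
  refine ⟨PrimeSpectrum.comap θ'.toRingHom (IsLocalRing.closedPoint L), ?_, ?_⟩
  · intro x hx
    rw [mem_pt] at hx
    change θ' x ∈ IsLocalRing.maximalIdeal L
    have : θ' x = 0 := hι (by rw [hθ', map_zero]; exact hx)
    rw [this]
    exact Ideal.zero_mem _
  · rw [← PrimeSpectrum.comap_comp_apply]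
    have : θ'.toRingHom.comp (algebraMap A (C ⊗[A] C)) =
        (algebraMap (integralClosure A K) L).comp (algebraMap A (integralClosure A K)) := by
      ext a
      simp [IsScalarTower.algebraMap_apply A (integralClosure A K) L]
    rw [this, PrimeSpectrum.comap_comp_apply]
    congr 1
    ext a
    change algebraMap _ L a ∈ IsLocalRing.maximalIdeal L ↔ _
    rw [IsLocalization.AtPrime.to_map_mem_maximal_iff L q.asIdeal]

/-- Key lemma: `E` an open subset of `Spec (C ⊗ C)` which is an equivalence relation on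
`K`-points and contains all points over `V(I)`.  If `V(I A')` is connected, any two `K`-points of
`Spec C` which specialize to points over `V(I)` are equivalent. -/
theorem pt_mem (I : Ideal A) (hconn : IsPreconnected (PrimeSpectrum.zeroLocus
      (I.map (algebraMap A (integralClosure A K)) : Set (integralClosure A K))))
    (hsurj : ∀ p : PrimeSpectrum A, I ≤ p.asIdeal →
      ∃ P : PrimeSpectrum C, PrimeSpectrum.comap (algebraMap A C) P = p)
    (E : Set (PrimeSpectrum (C ⊗[A] C))) (hE : IsOpen E)
    (hZ : ∀ e : PrimeSpectrum (C ⊗[A] C),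
      I ≤ (PrimeSpectrum.comap (algebraMap A (C ⊗[A] C)) e).asIdeal → e ∈ E)
    (htrans : ∀ φ ψ χ : C →ₐ[A] K, pt φ ψ ∈ E → pt ψ χ ∈ E → pt φ χ ∈ E)
    (φ ψ : C →ₐ[A] K)
    (hφ : ∃ u : PrimeSpectrum C, RingHom.ker φ ≤ u.asIdeal ∧ I.map (algebraMap A C) ≤ u.asIdeal)
    (hψ : ∃ u : PrimeSpectrum C, RingHom.ker ψ ≤ u.asIdeal ∧ I.map (algebraMap A C) ≤ u.asIdeal) :
    pt φ ψ ∈ E := by
  have hgen : ∀ φ ψ : C →ₐ[A] K, ∀ q ∈ PrimeSpectrum.zeroLocus
      (I.map (algebraMap A (integralClosure A K)) : Set (integralClosure A K)),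
      q ∈ dom φ → q ∈ dom ψ → pt φ ψ ∈ E := by
    intro φ ψ q hq h1 h2
    obtain ⟨e, he, heq⟩ := exists_pt_le φ ψ q h1 h2
    have h3 : e ∈ E := by
      refine hZ e ?_
      rw [heq]
      exact Ideal.map_le_iff_le_comap.1 hq
    exact ((PrimeSpectrum.le_iff_specializes _ _).1 he).mem_open hE h3
  have hex : ∀ φ : C →ₐ[A] K,
      (∃ u : PrimeSpectrum C, RingHom.ker φ ≤ u.asIdeal ∧ I.map (algebraMap A C) ≤ u.asIdeal) →
      ∃ q ∈ PrimeSpectrum.zeroLocus
      (I.map (algebraMap A (integralClosure A K)) : Set (integralClosure A K)), q ∈ dom φ := by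
    rintro φ ⟨u, hu, hI⟩
    obtain ⟨q, hq, hqu⟩ := exists_mem_dom_of_ker_le φ u hu
    refine ⟨q, ?_, hq⟩
    refine Ideal.map_le_iff_le_comap.2 ?_
    change I ≤ (PrimeSpectrum.comap (algebraMap A _) q).asIdeal
    rw [hqu]
    exact Ideal.map_le_iff_le_comap.1 hI
  by_contra hne
  have hφφ : pt φ φ ∈ E := by
    obtain ⟨q, hq, hqφ⟩ := hex φ hφ
    exact hgen φ φ q hq hqφ hqφ
  obtain ⟨q, hqZ, hq1, hq2⟩ := hconn (⋃ χ ∈ {χ : C →ₐ[A] K | pt φ χ ∈ E}, dom χ)
    (⋃ χ ∈ {χ : C →ₐ[A] K | pt φ χ ∉ E}, dom χ)
    (isOpen_biUnion fun χ _ => isOpen_dom χ) (isOpen_biUnion fun χ _ => isOpen_dom χ) (by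
      intro q hq
      have hI : I ≤ (PrimeSpectrum.comap (algebraMap A _) q).asIdeal := Ideal.map_le_iff_le_comap.1 hq
      obtain ⟨P, hP⟩ := hsurj _ hI
      obtain ⟨χ, hχ⟩ := exists_mem_dom q P hP.symm
      by_cases h : pt φ χ ∈ E
      · exact Or.inl (Set.mem_biUnion (show χ ∈ {χ : C →ₐ[A] K | pt φ χ ∈ E} from h) hχ)
      · exact Or.inr (Set.mem_biUnion (show χ ∈ {χ : C →ₐ[A] K | pt φ χ ∉ E} from h) hχ)) (by
      obtain ⟨q, hq, hqφ⟩ := hex φ hφ
      exact ⟨q, hq, Set.mem_biUnion (show φ ∈ {χ : C →ₐ[A] K | pt φ χ ∈ E} from hφφ) hqφ⟩) (by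
      obtain ⟨q, hq, hqψ⟩ := hex ψ hψ
      exact ⟨q, hq, Set.mem_biUnion (show ψ ∈ {χ : C →ₐ[A] K | pt φ χ ∉ E} from hne) hqψ⟩)
  simp only [Set.mem_iUnion, Set.mem_ofPred_eq, exists_prop] at hq1 hq2
  obtain ⟨χ, hχ, hqχ⟩ := hq1
  obtain ⟨χ', hχ', hqχ'⟩ := hq2
  exact hχ' (htrans _ _ _ hχ (hgen χ χ' q hqZ hqχ hqχ'))

end Split

end Groth.Agent.EtpbcA.OpenEquivAlg
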