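import Groth.Agent.EtpbcA.OpenEquiv
import Groth.Agent.EtpbcA.HenselGlue
import Groth.Agent.S0526
import Groth.Agent.S0530
import Mathlib.AlgebraicGeometry.Morphisms.Etale
import Mathlib.AlgebraicGeometry.Pullbacks

/-!
# `GeomGlue` for the spectrum of a henselian pair
-/

set_option autoImplicit false
universe u

open CategoryTheory CategoryTheory.Limits AlgebraicGeometry Opposite TensorProduct
open Groth.Agent.EtpbcA.OpenEquivAlg Groth.Agent.EtpbcA.OpenEquiv

namespace Groth.Agent.EtpbcA.OpenEquivSch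

section

variable {A : Type u} [CommRing A] {C : Type u} [CommRing C] [Algebra A C] {U : Scheme.{u}}
  (f : U ⟶ Spec (CommRingCat.of A)) (j : Spec (CommRingCat.of C) ≅ U)
  (hj : Spec.map (CommRingCat.ofHom (algebraMap A C)) = j.hom ≫ f)

/-- The comparison `Spec (C ⊗ C) ⟶ U ×_X U`. -/
noncomputable def Ψ : Spec (CommRingCat.of (C ⊗[A] C)) ⟶ pullback f f :=
  (pullbackSpecIso A C C).inv ≫ pullback.map _ _ f f j.hom j.hom (𝟙 _)
    (by rw [Category.comp_id, hj]) (by rw [Category.comp_id, hj])

instance : IsIso (Ψ f j hj) := by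
  unfold Ψ
  infer_instance

theorem Ψ_fst : Ψ f j hj ≫ pullback.fst f f =
    Spec.map (CommRingCat.ofHom (algebraMap C (C ⊗[A] C))) ≫ j.hom := by
  unfold Ψ
  rw [Category.assoc, pullback.lift_fst, pullbackSpecIso_inv_fst'_assoc]

theorem Ψ_snd : Ψ f j hj ≫ pullback.snd f f =
    Spec.map (CommRingCat.ofHom
      (Algebra.TensorProduct.includeRight : C →ₐ[A] C ⊗[A] C).toRingHom) ≫ j.hom := by
  unfold Ψ
  rw [Category.assoc, pullback.lift_snd, pullbackSpecIso_inv_snd_assoc]
  rfl

theorem lift_eq {K : Type u} [Field K] [Algebra A K] (φ ψ : C →ₐ[A] K)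
    (h : (Spec.map (CommRingCat.ofHom φ.toRingHom) ≫ j.hom) ≫ f =
      (Spec.map (CommRingCat.ofHom ψ.toRingHom) ≫ j.hom) ≫ f) :
    pullback.lift (Spec.map (CommRingCat.ofHom φ.toRingHom) ≫ j.hom)
      (Spec.map (CommRingCat.ofHom ψ.toRingHom) ≫ j.hom) h =
    Spec.map (CommRingCat.ofHom (Algebra.TensorProduct.productMap φ ψ).toRingHom) ≫ Ψ f j hj := by
  apply pullback.hom_ext
  · rw [pullback.lift_fst, Category.assoc, Ψ_fst, ← Category.assoc, ← Spec.map_comp]
    congr 2
    ext c
    simp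
  · rw [pullback.lift_snd, Category.assoc, Ψ_snd, ← Category.assoc, ← Spec.map_comp]
    congr 2
    ext c
    simp

include hj in
theorem comp_eq {K : Type u} [Field K] [Algebra A K] (φ ψ : C →ₐ[A] K) :
    (Spec.map (CommRingCat.ofHom φ.toRingHom) ≫ j.hom) ≫ f =
      (Spec.map (CommRingCat.ofHom ψ.toRingHom) ≫ j.hom) ≫ f := by
  rw [Category.assoc, Category.assoc, ← hj, ← Spec.map_comp, ← Spec.map_comp]
  congr 1
  ext a
  simp

theorem range_lift {K : Type u} [Field K] [Algebra A K] (φ ψ : C →ₐ[A] K)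
    (h : (Spec.map (CommRingCat.ofHom φ.toRingHom) ≫ j.hom) ≫ f =
      (Spec.map (CommRingCat.ofHom ψ.toRingHom) ≫ j.hom) ≫ f) :
    Set.range (pullback.lift (Spec.map (CommRingCat.ofHom φ.toRingHom) ≫ j.hom)
      (Spec.map (CommRingCat.ofHom ψ.toRingHom) ≫ j.hom) h) = {Ψ f j hj (pt φ ψ)} := by
  rw [lift_eq f j hj]
  ext x
  constructor
  · rintro ⟨y, rfl⟩
    have hy : y = (⊥ : PrimeSpectrum K) := Subsingleton.elim _ _
    subst hy
    rfl
  · rintro rfl
    exact ⟨(⊥ : PrimeSpectrum K), rfl⟩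

include hj in
/-- Scheme version of `OpenEquiv.exists_open` for `U ≅ Spec C`. -/
theorem exists_open_sch [Algebra.Etale A C] (I : Ideal A)
    (hconn : ∀ (K : Type u) [Field K] [IsAlgClosed K] [Algebra A K],
      _root_.IsPreconnected (PrimeSpectrum.zeroLocus
        (I.map (algebraMap A (integralClosure A K)) : Set (integralClosure A K))))
    (hI : ∀ m : Ideal A, m.IsMaximal → I ≤ m)
    (hsurj : Function.Surjective f)
    (E : (pullback f f).Opens)
    (hsymm : ∀ (K : Type u) [Field K] (a b : Spec (CommRingCat.of K) ⟶ U) (h : a ≫ f = b ≫ f),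
      Set.range (pullback.lift a b h) ⊆ E → Set.range (pullback.lift b a h.symm) ⊆ E)
    (htrans : ∀ (K : Type u) [Field K] (a b c : Spec (CommRingCat.of K) ⟶ U)
      (h : a ≫ f = b ≫ f) (h' : b ≫ f = c ≫ f), Set.range (pullback.lift a b h) ⊆ E →
      Set.range (pullback.lift b c h') ⊆ E → Set.range (pullback.lift a c (h.trans h')) ⊆ E)
    (hZ : ∀ e : (pullback f f : Scheme.{u}),
      I ≤ PrimeSpectrum.asIdeal (f (pullback.fst f f e)) → e ∈ E) :
    ∃ U₀ : U.Opens, (∀ x, ∃ u ∈ U₀, f u = x) ∧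
      ∀ e : (pullback f f : Scheme.{u}), pullback.fst f f e ∈ U₀ → pullback.snd f f e ∈ U₀ → e ∈ E := by
  let J : PrimeSpectrum C → U := fun y => j.hom y
  let J' : U → PrimeSpectrum C := fun y => j.inv y
  have hJ'c : Continuous J' := j.inv.continuous
  have hJ'J : ∀ y, J' (J y) = y := fun y => Scheme.hom_inv_apply j y
  have hJJ' : ∀ y, J (J' y) = y := fun y => Scheme.inv_hom_apply j y
  let Q : PrimeSpectrum (C ⊗[A] C) → (pullback f f : Scheme.{u}) := fun y => Ψ f j hj y
  have hQc : Continuous Q := (Ψ f j hj).continuous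
  have hΨ : Function.Surjective Q := (Ψ f j hj).surjective
  have hf : ∀ y : PrimeSpectrum C, f (J y) = PrimeSpectrum.comap (algebraMap A C) y := by
    intro y
    change (j.hom ≫ f) y = _
    rw [← hj]
    rfl
  have hfst : ∀ e : PrimeSpectrum (C ⊗[A] C), pullback.fst f f (Q e) =
      J (PrimeSpectrum.comap (algebraMap C (C ⊗[A] C)) e) := by
    intro e
    change (Ψ f j hj ≫ pullback.fst f f) e = _
    rw [Ψ_fst]
    rfl
  have hsnd : ∀ e : PrimeSpectrum (C ⊗[A] C), pullback.snd f f (Q e) =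
      J (PrimeSpectrum.comap
        (Algebra.TensorProduct.includeRight : C →ₐ[A] C ⊗[A] C).toRingHom e) := by
    intro e
    change (Ψ f j hj ≫ pullback.snd f f) e = _
    rw [Ψ_snd]
    rfl
  obtain ⟨U₀, hU₀, h1, -, h3⟩ := exists_open (C := C) I hconn hI (fun p _ => by
      obtain ⟨u, hu⟩ := hsurj p
      exact ⟨J' u, by rw [← hf, hJJ']; exact hu⟩) (Q ⁻¹' E) (E.2.preimage hQc)
    ⟨fun K _ _ _ φ ψ h => by
      have := hsymm K _ _ (comp_eq f j hj φ ψ) (by
        rw [range_lift f j hj φ ψ]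
        exact Set.singleton_subset_iff.2 h)
      rw [range_lift f j hj] at this
      exact this (Set.mem_singleton _), fun K _ _ _ φ ψ χ h h' => by
      have := htrans K _ _ _ (comp_eq f j hj φ ψ) (comp_eq f j hj ψ χ) (by
        rw [range_lift f j hj φ ψ]
        exact Set.singleton_subset_iff.2 h) (by
        rw [range_lift f j hj ψ χ]
        exact Set.singleton_subset_iff.2 h')
      rw [range_lift f j hj] at this
      exact this (Set.mem_singleton _)⟩
    (fun e he => by
      refine hZ (Q e) ?_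
      rw [hfst, hf, ← PrimeSpectrum.comap_comp_apply, ← IsScalarTower.algebraMap_eq]
      exact he)
  refine ⟨⟨J' ⁻¹' U₀, hU₀.preimage hJ'c⟩, fun x => ?_, fun e he he' => ?_⟩
  · obtain ⟨P, hP, hPx⟩ := h1 x
    refine ⟨J P, ?_, ?_⟩
    · change J' (J P) ∈ U₀
      rw [hJ'J]
      exact hP
    · rw [hf, hPx]
  · obtain ⟨e, rfl⟩ := hΨ e
    change J' (pullback.fst f f (Q e)) ∈ U₀ at he
    change J' (pullback.snd f f (Q e)) ∈ U₀ at he'
    rw [hfst, hJ'J] at he
    rw [hsnd, hJ'J] at he'
    exact h3 e he he'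

end

/-- Connectedness of `V(I A')` for `A'` integral over the henselian pair `(A, I)`, `A'` a domain. -/
theorem isPreconnected_zeroLocus (A : Type u) [CommRing A] (I : Ideal A) [HenselianRing A I]
    (K : Type u) [Field K] [Algebra A K] :
    _root_.IsPreconnected (PrimeSpectrum.zeroLocus
        (I.map (algebraMap A (integralClosure A K)) : Set (integralClosure A K))) := by
  have h1 := Groth.Agent.S0526.result A I (integralClosure A K)
  have h2 := Groth.Agent.S0530.result (integralClosure A K)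
    (I.map (algebraMap A (integralClosure A K))) ⊥
  have h3 : Set.range (PrimeSpectrum.comap (Ideal.Quotient.mk
      ((⊥ : Ideal (integralClosure A K)) ⊔ I.map (algebraMap A (integralClosure A K))))) =
      PrimeSpectrum.zeroLocus
        (I.map (algebraMap A (integralClosure A K)) : Set (integralClosure A K)) := by
    rw [_root_.range_comap_of_surjective _ _ Ideal.Quotient.mk_surjective, Ideal.mk_ker,
      bot_sup_eq]
  rw [← h3]
  exact isPreconnected_range (PrimeSpectrum.continuous_comap _)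

/-- The geometric glueing hypothesis holds for henselian pairs. -/
theorem geomGlue (A : Type u) [CommRing A] (I : Ideal A) [HenselianRing A I] :
    HenselGlue.GeomGlue (Spec.map (CommRingCat.ofHom (Ideal.Quotient.mk I))) := by
  intro U hU hsurj E hE hZ
  let C : CommRingCat.{u} := Γ(U.left, ⊤)
  let j : Spec C ≅ U.left := U.left.isoSpec.symm
  obtain ⟨φ, hφ⟩ := Spec.homEquiv.symm.surjective (j.hom ≫ U.hom)
  let _ : Algebra A C := φ.hom.toAlgebra
  have hj : Spec.map (CommRingCat.ofHom (algebraMap A C)) = j.hom ≫ U.hom := hφ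
  have hU' : Etale U.hom := U.prop
  have hetale : Algebra.Etale A C := by
    have h1 : Etale (Spec.map φ) := by
      have : Spec.map φ = j.hom ≫ U.hom := hφ
      rw [this]
      infer_instance
    have h2 := (HasRingHomProperty.Spec_iff (P := @Etale)).1 h1
    exact h2
  have hI : ∀ m : Ideal A, m.IsMaximal → I ≤ m := fun m hm =>
    HenselianRing.jac.trans (sInf_le ⟨bot_le, hm⟩)
  refine exists_open_sch U.hom j hj I (fun K _ _ _ => isPreconnected_zeroLocus A I K) hI hsurj E
    (fun K _ a b h => hE.symm a b h) (fun K _ a b c h h' => hE.trans a b c h h') ?_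
  intro e he
  refine hZ e ?_
  have : Set.range (Spec.map (CommRingCat.ofHom (Ideal.Quotient.mk I))) =
      PrimeSpectrum.zeroLocus (I : Set A) := by
    have := _root_.range_comap_of_surjective _ (Ideal.Quotient.mk I)
      Ideal.Quotient.mk_surjective
    rw [Ideal.mk_ker] at this
    exact this
  rw [this]
  exact he

end Groth.Agent.EtpbcA.OpenEquivSch
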