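import Groth.Agent.Hensel.Exist
import Groth.Agent.EtpbcB.StrictHensTransport
import Groth.Agent.Flat2D.SepClosedGeom
import Groth.Agent.Sga67.DVRConn
import Groth.Agent.Etrest.SHPoint

/-!
# Strict henselizations of a separably closed field

* `bijective_of_isStrictHenselization`: the strict henselization of a strictly henselian ring is itself;
* `exists_ringEquiv`: for `k` separably closed, every strict henselization of a local ring of `Spec k` is `k`;
* `connectedSpace_pullback`: for `ψ : RS → RX` with `RS ≃ k` separably closed and `RX` local, the geometric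
  fibres of `Spec RX → Spec RS` are connected.
-/

set_option autoImplicit false
universe u
open CategoryTheory CategoryTheory.Limits AlgebraicGeometry Opposite IsLocalRing

namespace Groth.Agent.EtpbcA.SepClosedStrict

theorem bijective_of_isStrictHenselization (A R : Type u) [CommRing A] [HenselianLocalRing A]
    [IsSepClosed (ResidueField A)] [CommRing R] [IsLocalRing R] [Algebra A R]
    [IsLocalHom (algebraMap A R)] [Hensel.IsStrictHenselization A R] :
    Function.Bijective (algebraMap A R) := by
  have : IsLocalHom (algebraMap A A) := ⟨fun _ h => h⟩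
  have := EtpbcB.StrictHensTransport.self A
  obtain ⟨e⟩ := Hensel.Exist.exists_algEquiv_of_isStrictHenselization A A R
  have h : (algebraMap A R : A → R) = e := funext fun a => (e.commutes a).symm
  rw [h]
  exact e.bijective

/-- A local ring isomorphic to a separably closed field is its own strict henselization. -/
theorem bijective_of_ringEquiv (k A R : Type u) [Field k] [IsSepClosed k] [CommRing A] [IsLocalRing A]
    [CommRing R] [IsLocalRing R] [Algebra A R] [IsLocalHom (algebraMap A R)]
    [Hensel.IsStrictHenselization A R] (e : k ≃+* A) : Function.Bijective (algebraMap A R) := by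
  let _ : Algebra k R := ((algebraMap A R).comp (e : k →+* A)).toAlgebra
  have hk : algebraMap k R = (algebraMap A R).comp (e : k →+* A) := rfl
  have : IsLocalHom (algebraMap k R) := by
    rw [hk]
    infer_instance
  have := Etrest.SHPoint.isSepClosed_residueField k
  have := EtpbcB.StrictHensTransport.of_ringEquiv k A R e rfl
  have h := bijective_of_isStrictHenselization k R
  have h2 : (algebraMap A R : A → R) = (algebraMap k R : k → R) ∘ e.symm := by
    funext a
    change algebraMap A R a = algebraMap A R (e (e.symm a))
    rw [e.apply_symm_apply]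
  rw [h2]
  exact h.comp e.symm.bijective

theorem connectedSpace_spec (R : Type u) [CommRing R] [IsLocalRing R] :
    ConnectedSpace (PrimeSpectrum R) := by
  have : PreconnectedSpace (PrimeSpectrum R) := by
    rw [preconnectedSpace_iff_clopen]
    intro s hs
    by_cases h : closedPoint R ∈ s
    · right
      have := (IsLocalRing.closedPoint_mem_iff (⟨s, hs.2⟩ : TopologicalSpace.Opens (PrimeSpectrum R))).1 h
      exact congrArg (fun U : TopologicalSpace.Opens (PrimeSpectrum R) => (U : Set (PrimeSpectrum R))) this
    · left
      have := (IsLocalRing.closedPoint_mem_iff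
        (⟨sᶜ, hs.1.isOpen_compl⟩ : TopologicalSpace.Opens (PrimeSpectrum R))).1 h
      have h2 := congrArg (fun U : TopologicalSpace.Opens (PrimeSpectrum R) => (U : Set (PrimeSpectrum R))) this
      exact Set.compl_univ_iff.1 h2
  exact ⟨⟨closedPoint R⟩⟩

theorem exists_ringEquiv (k : Type u) [Field k] [IsSepClosed k] (p : Spec (CommRingCat.of k))
    (R : Type u) [CommRing R] [IsLocalRing R] [Algebra ((Spec (CommRingCat.of k)).presheaf.stalk p) R]
    [IsLocalHom (algebraMap ((Spec (CommRingCat.of k)).presheaf.stalk p) R)]
    [Hensel.IsStrictHenselization ((Spec (CommRingCat.of k)).presheaf.stalk p) R] :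
    Nonempty (k ≃+* R) := by
  obtain rfl : p = closedPoint k := Subsingleton.elim (α := PrimeSpectrum k) _ _
  let e : (Spec (CommRingCat.of k)).presheaf.stalk (closedPoint k) ≃+* k :=
    (stalkClosedPointIso (CommRingCat.of k)).commRingCatIsoToRingEquiv
  have h := bijective_of_ringEquiv k ((Spec (CommRingCat.of k)).presheaf.stalk (closedPoint k)) R e.symm
  exact ⟨e.symm.trans (RingEquiv.ofBijective _ h)⟩

theorem connectedSpace_pullback (k : Type u) [Field k] [IsSepClosed k] {RS RX : Type u} [CommRing RS]
    [CommRing RX] [IsLocalRing RX] (e : k ≃+* RS) (ψ : RS →+* RX) {Ω : Type u} [Field Ω]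
    (η : Spec (CommRingCat.of Ω) ⟶ Spec (CommRingCat.of RS)) :
    ConnectedSpace ↥(pullback (Spec.map (CommRingCat.ofHom ψ)) η) := by
  let i : Spec (CommRingCat.of RS) ⟶ Spec (CommRingCat.of k) :=
    Spec.map (CommRingCat.ofHom (e : k →+* RS))
  have hi : IsIso i := by
    have : IsIso (CommRingCat.ofHom (e : k →+* RS)) := (e.toCommRingCatIso).isIso_hom
    infer_instance
  obtain ⟨γ, hγ⟩ : ∃ γ : k →+* Ω, Spec.map (CommRingCat.ofHom γ) = η ≫ i :=
    ⟨(Spec.preimage (η ≫ i)).hom, Spec.map_preimage _⟩
  let _ : Algebra k Ω := γ.toAlgebra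
  have h1 : GeometricallyIrreducible (η ≫ i) := by
    rw [← hγ]
    exact Flat2D.SepClosedGeom.geometricallyIrreducible_specMap_of_isSepClosed k Ω
  have h2 : GeometricallyConnected (η ≫ i) := Sga67.DVRConn.geometricallyConnected _
  have h3 : UniversallyOpen (η ≫ i) := inferInstance
  have h4 : ConnectedSpace (Spec (CommRingCat.of RX)) := connectedSpace_spec RX
  have h5 : ConnectedSpace ↥(pullback (Spec.map (CommRingCat.ofHom ψ) ≫ i) (η ≫ i)) := inferInstance
  have h6 : IsPullback (pullback.fst (Spec.map (CommRingCat.ofHom ψ)) η)
      (pullback.snd (Spec.map (CommRingCat.ofHom ψ)) η) (Spec.map (CommRingCat.ofHom ψ) ≫ i) (η ≫ i) :=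
    IsPullback.of_isLimit (PullbackCone.isLimitOfCompMono _ _ i _ (pullbackIsPullback _ _))
  exact (Scheme.homeoOfIso h6.isoPullback).symm.surjective.connectedSpace
    (Scheme.homeoOfIso h6.isoPullback).symm.continuous

end Groth.Agent.EtpbcA.SepClosedStrict
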