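import Groth.Agent.Etbase.ExtCompare
import Groth.Agent.EtpbcA.CdEtLeray
import Groth.Agent.EtpbcB.EffaceCore
import Groth.Agent.EtpbcB.TorsionBasic
import Groth.Agent.EtpbcA.PullFLC

/-!
# Restriction of cohomology is bijective in all degrees: reduction to degree `0` by effacement

* `mapExt_bijective`: `L : B ⥤ A` exact, `P` a class of objects of `B` stable under quotients such
  that `Hom(X, F) → Hom(L X, L F)` is bijective for `F ∈ P` and such that classes in
  `Ext^n(X, F)` and `Ext^n(L X, L F)`, `n > 0`, are effaced by monomorphisms `F ⟶ F'` with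
  `F' ∈ P`.  Then `Ext^n(X, F) → Ext^n(L X, L F)` is bijective for all `n` and `F ∈ P`.
* `bijective_H_unit`: for `i : Z ⟶ X` with `i_*` exact, the same for
  `H^n(X, F) ⟶ H^n(X, i_* i^* F)`, `F` torsion.
-/

set_option autoImplicit false

universe w w' v v' u u'

open CategoryTheory CategoryTheory.Limits CategoryTheory.Abelian AlgebraicGeometry Opposite

namespace Groth.Agent.EtpbcA.UnitH

section Abstract

variable {B : Type u} [Category.{v} B] [Abelian B] {A : Type u'} [Category.{v'} A] [Abelian A]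
  (L : B ⥤ A) [L.Additive] [PreservesFiniteLimits L] [PreservesFiniteColimits L]
  [HasExt.{w} B] [HasExt.{w'} A]

theorem mapExt_bijective (X : B) (P : B → Prop)
    (hP : ∀ (F F' : B) (φ : F ⟶ F') (_ : Mono φ), P F' → P (cokernel φ))
    (h0 : ∀ F : B, P F → Function.Bijective (fun g : X ⟶ F => L.map g))
    (e1 : ∀ (F : B), P F → ∀ (n : ℕ), 0 < n → ∀ x : Ext.{w} X F n,
      ∃ (F' : B) (φ : F ⟶ F') (_ : Mono φ), P F' ∧ x.comp (Ext.mk₀ φ) (add_zero n) = 0)
    (e2 : ∀ (F : B), P F → ∀ (n : ℕ), 0 < n → ∀ x : Ext.{w'} (L.obj X) (L.obj F) n,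
      ∃ (F' : B) (φ : F ⟶ F') (_ : Mono φ), P F' ∧ x.comp (Ext.mk₀ (L.map φ)) (add_zero n) = 0)
    (n : ℕ) : ∀ (F : B), P F →
      Function.Bijective (fun x : Ext.{w} X F n => (x.mapExactFunctor L : Ext.{w'} _ _ n)) := by
  induction n with
  | zero =>
    intro F hF
    have key : (fun x : Ext.{w} X F 0 => (x.mapExactFunctor L : Ext.{w'} _ _ 0)) ∘
        (Ext.mk₀ : (X ⟶ F) → Ext.{w} X F 0) =
        (Ext.mk₀ : (L.obj X ⟶ L.obj F) → Ext.{w'} (L.obj X) (L.obj F) 0) ∘
          (fun g : X ⟶ F => L.map g) := by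
      ext g
      simp only [Function.comp_apply, Ext.mapExactFunctor_mk₀]
    rw [← Function.Bijective.of_comp_iff _ (Ext.mk₀_bijective X F), key]
    exact (Ext.mk₀_bijective _ _).comp (h0 F hF)
  | succ n hn =>
    intro F hF
    -- the short exact sequence attached to a monomorphism
    have hS : ∀ (F' : B) (φ : F ⟶ F') (_ : Mono φ),
        (ShortComplex.mk φ (cokernel.π φ) (cokernel.condition φ)).ShortExact := fun F' φ _ =>
      { exact := ShortComplex.exact_cokernel φ
        mono_f := by assumption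
        epi_g := by dsimp; infer_instance }
    have hδ : ∀ (F' : B) (φ : F ⟶ F') (hm : Mono φ) (y : Ext.{w} X (cokernel φ) n),
        ((y.comp (hS F' φ hm).extClass rfl).mapExactFunctor L : Ext.{w'} _ _ (n + 1)) =
          (y.mapExactFunctor L : Ext.{w'} _ _ n).comp ((hS F' φ hm).map_of_exact L).extClass
            rfl := by
      intro F' φ hm y
      rw [Ext.mapExactFunctor_comp, Ext.mapExactFunctor_extClass]
      rfl
    constructor
    · refine (injective_iff_map_eq_zero (L.mapExtAddHom X F (n + 1))).2 fun x hx => ?_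
      obtain ⟨F', φ, hm, hF', h⟩ := e1 F hF (n + 1) (Nat.succ_pos n) x
      obtain ⟨y, rfl⟩ := Ext.covariant_sequence_exact₁ _ (hS F' φ hm) x h rfl
      have hx' : (y.mapExactFunctor L : Ext.{w'} _ _ n).comp
          ((hS F' φ hm).map_of_exact L).extClass rfl = 0 := by
        rw [← hδ F' φ hm]
        exact hx
      obtain ⟨z, hz⟩ := Ext.covariant_sequence_exact₃ _ ((hS F' φ hm).map_of_exact L) _ rfl hx'
      obtain ⟨z', rfl⟩ := (hn F' hF').2 z
      have h1 : z'.comp (Ext.mk₀ (cokernel.π φ)) (add_zero n) = y := by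
        apply (hn _ (hP F F' φ hm hF')).1
        dsimp only
        rw [Ext.mapExactFunctor_comp, Ext.mapExactFunctor_mk₀]
        exact hz
      rw [← h1, Ext.comp_assoc_of_second_deg_zero]
      have h2 := (hS F' φ hm).comp_extClass
      exact (congrArg (fun t => z'.comp t rfl) h2).trans (Ext.comp_zero _ _ _ _ _)
    · intro ξ
      obtain ⟨F', φ, hm, hF', h⟩ := e2 F hF (n + 1) (Nat.succ_pos n) ξ
      obtain ⟨y, rfl⟩ := Ext.covariant_sequence_exact₁ _ ((hS F' φ hm).map_of_exact L) ξ h rfl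
      obtain ⟨y', rfl⟩ := (hn _ (hP F F' φ hm hF')).2 y
      exact ⟨y'.comp (hS F' φ hm).extClass rfl, hδ F' φ hm y'⟩

end Abstract

section Et

open CdEtLeray

variable {X Z : Scheme.{u}}

/-- global sections are homomorphisms from `ℤ` -/
noncomputable def gammaEquiv (F : EtCoh.Ab X) :
    F.obj.obj (op (EtCoh.top X)) ≃+ (ZZ X ⟶ F) :=
  (((constantSheafAdj X.smallEtaleTopology AddCommGrpCat.{u + 1}
    (EtpbcB.EffaceCore.topTerminal X)).homAddEquiv _
    F).trans (AddCommGrpCat.uliftZMultiplesAddEquiv _)).symm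

theorem gammaEquiv_naturality {F G : EtCoh.Ab X} (f : F ⟶ G)
    (x : F.obj.obj (op (EtCoh.top X))) :
    gammaEquiv G (f.hom.app (op (EtCoh.top X)) x) = gammaEquiv F x ≫ f := by
  obtain ⟨y, rfl⟩ := (gammaEquiv F).symm.surjective x
  apply (gammaEquiv G).symm.injective
  rw [AddEquiv.symm_apply_apply, AddEquiv.apply_symm_apply]
  rfl

theorem comp_bijective_of_app {F G : EtCoh.Ab X} (f : F ⟶ G)
    (h : Function.Bijective (f.hom.app (op (EtCoh.top X)))) :
    Function.Bijective (fun g : ZZ X ⟶ F => g ≫ f) := by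
  have h1 : (fun g : ZZ X ⟶ F => g ≫ f) ∘ (gammaEquiv F) =
      (gammaEquiv G) ∘ (f.hom.app (op (EtCoh.top X))) := by
    funext x
    exact (gammaEquiv_naturality f x).symm
  rw [← Function.Bijective.of_comp_iff _ (gammaEquiv F).bijective, h1]
  exact (gammaEquiv G).bijective.comp h

theorem map_bijective_of_unit (i : Z ⟶ X) (F : EtCoh.Ab X)
    (h : Function.Bijective
      (((EtCoh.pullPushAdj i).unit.app F).hom.app (op (EtCoh.top X)))) :
    Function.Bijective (fun g : ZZ X ⟶ F => (EtCoh.pull i).map g) := by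
  have h1 := comp_bijective_of_app _ h
  have h2 : (fun g : ZZ X ⟶ F => (EtCoh.pull i).map g) =
      ((EtCoh.pullPushAdj i).homEquiv (ZZ X) ((EtCoh.pull i).obj F)).symm ∘
        (fun g : ZZ X ⟶ F => g ≫ (EtCoh.pullPushAdj i).unit.app F) := by
    funext g
    apply ((EtCoh.pullPushAdj i).homEquiv (ZZ X) ((EtCoh.pull i).obj F)).injective
    simp only [Function.comp_apply, Equiv.apply_symm_apply]
    rw [Adjunction.homEquiv_unit]
    exact ((EtCoh.pullPushAdj i).unit.naturality g).symm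
  rw [h2]
  exact (Equiv.bijective _).comp h1

/-- Transport of a class on `Z` to a class in `Ext (i^* ℤ)`. -/
theorem efface_transfer (i : Z ⟶ X) {F F' : EtCoh.Ab X} (φ : F ⟶ F') (n : ℕ)
    (x : Ext ((EtCoh.pull i).obj (ZZ X)) ((EtCoh.pull i).obj F) n)
    (h : Sheaf.H.map ((EtCoh.pull i).map φ) n
      ((Ext.mk₀ (pullZZ i).inv).comp x (zero_add n) : EtCoh.H Z ((EtCoh.pull i).obj F) n) = 0) :
    x.comp (Ext.mk₀ ((EtCoh.pull i).map φ)) (add_zero n) = 0 := by
  rw [Sheaf.H.map_apply] at h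
  have h1 := congrArg (fun t => (Ext.mk₀ (pullZZ i).hom).comp t (zero_add n)) h
  rw [Ext.comp_assoc_of_third_deg_zero, Ext.mk₀_comp_mk₀_assoc, Iso.hom_inv_id, Ext.mk₀_id_comp,
    Ext.comp_zero] at h1
  exact h1

/-- Restriction `H^n(X, F) ⟶ H^n(X, i_* i^* F)` is bijective for all torsion `F` and all `n` if it
is so for `n = 0` and if all classes of positive degree in `H^n(X, F)` and `H^n(Z, i^* F)` are
effaced by monomorphisms `F ⟶ F'` with `F'` torsion. -/
theorem bijective_H_unit (i : Z ⟶ X) [PreservesFiniteColimits (EtCoh.push i)]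
    (h0 : ∀ F : EtCoh.Ab X, EtCoh.IsTorsion F → Function.Bijective
      (((EtCoh.pullPushAdj i).unit.app F).hom.app (op (EtCoh.top X))))
    (e1 : ∀ F : EtCoh.Ab X, EtCoh.IsTorsion F → ∀ q : ℕ, 0 < q → ∀ ξ : EtCoh.H X F q,
      ∃ (F' : EtCoh.Ab X) (_ : EtCoh.IsTorsion F') (φ : F ⟶ F') (_ : Mono φ),
      Sheaf.H.map φ q ξ = 0)
    (e2 : ∀ F : EtCoh.Ab X, EtCoh.IsTorsion F → ∀ q : ℕ, 0 < q →
      ∀ ξ : EtCoh.H Z ((EtCoh.pull i).obj F) q,
      ∃ (F' : EtCoh.Ab X) (_ : EtCoh.IsTorsion F') (φ : F ⟶ F') (_ : Mono φ),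
      Sheaf.H.map ((EtCoh.pull i).map φ) q ξ = 0)
    (F : EtCoh.Ab X) (hF : EtCoh.IsTorsion F) (q : ℕ) :
    Function.Bijective (Sheaf.H.map ((EtCoh.pullPushAdj i).unit.app F) q) := by
  have h1 := mapExt_bijective (EtCoh.pull i) (ZZ X) EtCoh.IsTorsion
    (fun F F' φ _ hF' => EtpbcB.TorsionBasic.isTorsion_of_epi (cokernel.π φ) hF')
    (fun F hF => map_bijective_of_unit i F (h0 F hF))
    (fun F hF n hn x => by
      obtain ⟨F', hF', φ, hm, h⟩ := e1 F hF n hn x
      exact ⟨F', φ, hm, hF', h⟩)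
    (fun F hF n hn x => by
      obtain ⟨F', hF', φ, hm, h⟩ := e2 F hF n hn
        ((Ext.mk₀ (pullZZ i).inv).comp x (zero_add n))
      exact ⟨F', φ, hm, hF', efface_transfer i φ n x h⟩) q F hF
  have h2 := Etbase.ExtCompare.cmp_counit_bijective (EtCoh.pull i) (EtCoh.pullPushAdj i) (ZZ X)
    (fun _ => True) (fun G _ => by
      refine ⟨_, _, Injective.ι G, cokernel.π _, cokernel.condition _,
        { exact := ShortComplex.exact_cokernel _
          mono_f := by dsimp; infer_instance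
          epi_g := by dsimp; infer_instance }, inferInstance, inferInstance, trivial⟩)
    q ((EtCoh.pull i).obj F) trivial
  have h3 : (Etbase.ExtCompare.cmp (EtCoh.pull i) (ZZ X)
      ((EtCoh.pullPushAdj i).counit.app ((EtCoh.pull i).obj F)) q) ∘
      (Sheaf.H.map ((EtCoh.pullPushAdj i).unit.app F) q) =
      (fun x : Ext (ZZ X) F q => x.mapExactFunctor (EtCoh.pull i)) := by
    ext x
    refine (Etbase.ExtCompare.cmp_naturality (EtCoh.pull i) (ZZ X) (𝟙 _) _
      ((EtCoh.pullPushAdj i).unit.app F) (𝟙 _) ?_ q x).trans ?_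
    · exact ((EtCoh.pullPushAdj i).left_triangle_components F).trans
        (Category.comp_id _).symm
    · rw [Ext.comp_mk₀_id, Etbase.ExtCompare.cmp_apply, Ext.comp_mk₀_id]
  rw [← Function.Bijective.of_comp_iff' h2, h3]
  exact h1

/-- Effacement on `X` from effacement of classes on the closed subscheme `X` of `X`. -/
theorem efface_of_pullId {F F' : EtCoh.Ab X} (φ : F ⟶ F') (q : ℕ) (ξ : EtCoh.H X F q)
    (h : Sheaf.H.map ((EtCoh.pull (𝟙 X)).map φ) q
      (Sheaf.H.map ((PullFLC.pullId X).inv.app F) q ξ) = 0) : Sheaf.H.map φ q ξ = 0 := by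
  rw [← Sheaf.H.map_comp_apply] at h
  have h1 : (PullFLC.pullId X).inv.app F ≫ (EtCoh.pull (𝟙 X)).map φ =
      φ ≫ (PullFLC.pullId X).inv.app F' := ((PullFLC.pullId X).inv.naturality φ).symm
  rw [h1, Sheaf.H.map_comp_apply] at h
  have h2 := congrArg (Sheaf.H.map ((PullFLC.pullId X).hom.app F') q) h
  rw [← Sheaf.H.map_comp_apply, Iso.inv_hom_id_app, map_zero] at h2
  exact (Sheaf.H.map_id_apply _).symm.trans h2

end Et

end Groth.Agent.EtpbcA.UnitH
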